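import Groth.Agent.MultTransp18.Bridge
import Groth.Agent.MultTransp18.LocAffine
import Groth.Agent.MultTypeLib.LocalToGlobal
import Groth.Agent.GrpSchLib.MultTypeBC
import Groth.Agent.GrpSchLib.MultTypeLft
import Groth.Prelude.Def_SGA3x
import Mathlib.AlgebraicGeometry.Morphisms.Etale

/-!
# Splitting groups of multiplicative type and of finite type over an etale neighbourhood
-/

universe u

open CategoryTheory CategoryTheory.Limits MonoidalCategory CartesianMonoidalCategory MonObj AlgebraicGeometry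
open TensorProduct
open Groth.Agent.GrpSchLib.AffineHopf Groth.Agent.GrpSchLib
open Groth.Agent.MultTypeLib

set_option backward.isDefEq.respectTransparency false
set_option synthInstance.maxHeartbeats 400000
set_option maxHeartbeats 1000000

namespace Groth.Agent.MultCentral18

/-- A group of multiplicative type is diagonalised by an etale neighbourhood of each prime. -/
theorem exists_etale_diag {R A : Type u} [CommRing R] [CommRing A] [HopfAlgebra R A] (hft : Algebra.FiniteType R A)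
    (hA : SGA3b.IsMultType R A) (p : Ideal R) [hp : p.IsPrime] :
    ∃ (B : Type u) (_ : CommRing B) (_ : Algebra R B), Algebra.Etale R B ∧
      (∃ q : Ideal B, q.IsPrime ∧ q.comap (algebraMap R B) = p) ∧ SGA3b.IsDiag B (B ⊗[R] A) := by
  classical
  obtain ⟨s, hs, hA⟩ := hA
  obtain ⟨f₀, hf₀s, hf₀⟩ : ∃ f ∈ s, f ∉ p := by
    by_contra hne
    push Not at hne
    exact hp.ne_top (top_le_iff.mp (hs ▸ Ideal.span_le.mpr hne))
  let R₁ := Localization.Away f₀
  obtain ⟨S, _, _, hff, hd⟩ := hA f₀ hf₀s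
  obtain ⟨M, inst, hom, equiv, he⟩ := exists_split_of_isDiag (R := R₁) (A := R₁ ⊗[R] A) S hd
  let P : Split R₁ (R₁ ⊗[R] A) := { S := S, M := M, hom := hom, equiv := equiv, equiv_tmul := he }
  have : Module.FaithfullyFlat R₁ P.S := hff
  have hdis : Disjoint (Submonoid.powers f₀ : Set R) (p : Set R) := by
    rw [Set.disjoint_left]
    rintro y ⟨n, rfl⟩ hy
    exact hf₀ (hp.mem_of_pow_mem n hy)
  have := IsLocalization.isPrime_of_isPrime_disjoint _ R₁ p hp hdis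
  obtain ⟨B, _, _, het, ⟨q, hq, hqp⟩, hdB⟩ := P.exists_etale_isDiag inferInstance (p.map (algebraMap R R₁))
  let _ : Algebra R B := ((algebraMap R₁ B).comp (algebraMap R R₁)).toAlgebra
  have : IsScalarTower R R₁ B := IsScalarTower.of_algebraMap_eq fun _ => rfl
  have : Algebra.Etale R R₁ := Algebra.Etale.of_isLocalizationAway f₀
  refine ⟨B, inferInstance, inferInstance, Algebra.Etale.comp R R₁ B, ⟨q, hq, ?_⟩,
    isDiag_congr (baseChangeTrans (R := R) R₁ B A).symm hdB⟩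
  rw [IsScalarTower.algebraMap_eq R R₁ B, ← Ideal.comap_comap, hqp]
  exact IsLocalization.under_map_of_isPrime_disjoint _ _ hp hdis

/-- The same, for group schemes. -/
theorem exists_etale_split {S : Scheme.{u}} (H : Over S) [GrpObj H] (hH : SGA3x.IsMultTypeFT H) (s : S) :
    ∃ (R : Type u) (_ : CommRing R) (β : Spec (CommRingCat.of R) ⟶ S) (p : PrimeSpectrum R) (M : Type u)
      (_ : CommGroup M), Etale β ∧ β.base p = s ∧ Group.FG M ∧
        Nonempty (Grp.mk (sp R (MonoidAlgebra R M)) ≅ Grp.mk (Red.bc β H)) := by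
  obtain ⟨V, hV, hsV, -⟩ := exists_isAffineOpen_mem_and_subset (show s ∈ (⊤ : S.Opens) from trivial)
  let R₀ : Type u := Γ(S, V)
  let ι₀ : Spec (CommRingCat.of R₀) ⟶ S := hV.fromSpec
  haveI : IsOpenImmersion ι₀ := inferInstanceAs (IsOpenImmersion hV.fromSpec)
  obtain ⟨p₀, hp₀⟩ : s ∈ Set.range ι₀.base := by
    show s ∈ Set.range hV.fromSpec.base
    rw [hV.range_fromSpec]
    exact hsV
  let H₀ : Over (Spec (CommRingCat.of R₀)) := Red.bc ι₀ H
  have hH₀ : SGA3x.IsMultTypeFT H₀ := MultTypeBC.isMultTypeFT_bc ι₀ hH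
  have hld : MultTransp18.LocDiag H₀ := MultTransp18.locDiag_of_multTypeFT hH₀
  haveI : IsAffineHom H₀.hom := MultTransp18.isAffineHom_of_locDiag hld
  haveI : IsAffine H₀.left := isAffine_of_isAffineHom H₀.hom
  obtain ⟨A, _, _, ⟨e⟩⟩ := exists_hopf H₀
  have hft : Algebra.FiniteType R₀ A := by
    haveI := MultTypeLft.lft hH₀
    haveI : LocallyOfFiniteType (sp R₀ A).hom := by
      rw [← Over.w e.hom.hom.hom]
      haveI : IsIso e.hom.hom.hom.left :=
        ⟨e.inv.hom.hom.left, congrArg (fun h => h.hom.hom.left) e.hom_inv_id,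
          congrArg (fun h => h.hom.hom.left) e.inv_hom_id⟩
      exact inferInstanceAs (LocallyOfFiniteType (e.hom.hom.hom.left ≫ H₀.hom))
    exact RingHom.finiteType_algebraMap.mp ((HasRingHomProperty.Spec_iff (P := @LocallyOfFiniteType)).mp
      (show LocallyOfFiniteType (Spec.map (CommRingCat.ofHom (algebraMap R₀ A))) from this))
  obtain ⟨B, _, _, het, ⟨q, hq, hqp⟩, M, _, ⟨f⟩⟩ :=
    exists_etale_diag hft (MultTransp18.isMultType_of_locDiag e hld) p₀.asIdeal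
  haveI : Nontrivial B :=
    nontrivial_of_ne 0 1 fun h => hq.ne_top ((Ideal.eq_top_iff_one q).mpr (h ▸ q.zero_mem))
  let b : Spec (CommRingCat.of B) ⟶ Spec (CommRingCat.of R₀) := Spec.map (CommRingCat.ofHom (algebraMap R₀ B))
  haveI : Etale b :=
    (HasRingHomProperty.Spec_iff (P := @Etale)).mpr (RingHom.etale_algebraMap.mpr het)
  have hM : Group.FG M := by
    haveI : Algebra.FiniteType B (MonoidAlgebra B M) :=
      Algebra.FiniteType.equiv (inferInstanceAs (Algebra.FiniteType B (B ⊗[R₀] A))) f.toAlgEquiv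
    exact Group.fg_iff_monoid_fg.mpr (MonoidAlgebra.fg_of_finiteType (R := B))
  obtain ⟨e1⟩ := nonempty_bc_sp (R := R₀) B A
  obtain ⟨e2⟩ := MultTypeBC.bc_iso b e
  obtain ⟨e3⟩ := MultTypeBC.bc_bc b ι₀ H
  refine ⟨B, inferInstance, b ≫ ι₀, ⟨q, hq⟩, M, inferInstance, inferInstance, ?_, hM,
    ⟨spIso f ≪≫ e1.symm ≪≫ e2 ≪≫ e3⟩⟩
  show ι₀.base (b.base ⟨q, hq⟩) = s
  rw [show b.base ⟨q, hq⟩ = p₀ from PrimeSpectrum.ext hqp]
  exact hp₀

/-- Two groups are split by one etale neighbourhood. -/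
theorem exists_etale_split₂ {S : Scheme.{u}} (H₁ H₂ : Over S) [GrpObj H₁] [GrpObj H₂]
    (h₁ : SGA3x.IsMultTypeFT H₁) (h₂ : SGA3x.IsMultTypeFT H₂) (s : S) :
    ∃ (R : Type u) (_ : CommRing R) (β : Spec (CommRingCat.of R) ⟶ S) (p : PrimeSpectrum R) (M₁ : Type u)
      (_ : CommGroup M₁) (M₂ : Type u) (_ : CommGroup M₂), Etale β ∧ β.base p = s ∧ Group.FG M₁ ∧ Group.FG M₂ ∧
        Nonempty (Grp.mk (sp R (MonoidAlgebra R M₁)) ≅ Grp.mk (Red.bc β H₁)) ∧
        Nonempty (Grp.mk (sp R (MonoidAlgebra R M₂)) ≅ Grp.mk (Red.bc β H₂)) := by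
  obtain ⟨R₁, _, β₁, p₁, M₁, _, hβ₁, hp₁, hM₁, ⟨e₁⟩⟩ := exists_etale_split H₁ h₁ s
  obtain ⟨R, _, gam, p, M₂, _, hgam, hp, hM₂, ⟨e₂⟩⟩ :=
    exists_etale_split (Red.bc β₁ H₂) (MultTypeBC.isMultTypeFT_bc β₁ h₂) p₁
  obtain ⟨φ, hφ⟩ : ∃ φ : R₁ →+* R, Spec.map (CommRingCat.ofHom φ) = gam :=
    ⟨(Spec.preimage gam).hom, Spec.map_preimage gam⟩
  letI : Algebra R₁ R := φ.toAlgebra
  obtain ⟨c1⟩ := nonempty_bc_sp (R := R₁) R (MonoidAlgebra R₁ M₁)
  obtain ⟨c2⟩ := MultTypeBC.bc_congr (show Spec.map (CommRingCat.ofHom (algebraMap R₁ R)) = gam from hφ)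
    (sp R₁ (MonoidAlgebra R₁ M₁))
  obtain ⟨c3⟩ := MultTypeBC.bc_iso gam e₁
  obtain ⟨c4⟩ := MultTypeBC.bc_bc gam β₁ H₁
  obtain ⟨d4⟩ := MultTypeBC.bc_bc gam β₁ H₂
  refine ⟨R, inferInstance, gam ≫ β₁, p, M₁, inferInstance, M₂, inferInstance, inferInstance, ?_, hM₁, hM₂,
    ⟨(spIso (scalarBialgEquiv R₁ R M₁)).symm ≪≫ c1.symm ≪≫ c2 ≪≫ c3 ≪≫ c4⟩, ⟨e₂ ≪≫ d4⟩⟩
  show β₁.base (gam.base p) = s
  rw [hp]
  exact hp₁

end Groth.Agent.MultCentral18
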