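import Groth.Agent.MultCentral18.Rigid
import Mathlib.RingTheory.RingHom.Flat
import Mathlib.AlgebraicGeometry.Sites.Fpqc
import Mathlib.Algebra.MonoidAlgebra.NoZeroDivisors

/-!
# Homomorphisms out of a diagonalisable group: rigidity, and equality from a dense open
-/

universe u

open CategoryTheory CategoryTheory.Limits MonoidalCategory CartesianMonoidalCategory MonObj AlgebraicGeometry
open Groth.Agent.GrpSchLib.AffineHopf
open Groth.Agent.FreeAct18 (exists_spMap_eq spMap_inj one_single mul_single)

set_option backward.isDefEq.respectTransparency false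
set_option linter.style.haveILetI false
set_option synthInstance.maxHeartbeats 400000
set_option maxHeartbeats 1000000

namespace Groth.Agent.MultCentral18

variable {R : Type u} [CommRing R] {G : Over (Spec (CommRingCat.of R))} [GrpObj G] {M : Type u} [CommGroup M]
  (u v : sp R (MonoidAlgebra R M) ⟶ G) [IsMonHom u] [IsMonHom v]

/-- The group algebra over an algebra. -/
noncomputable def baseT (T : Type u) [CommRing T] [Algebra R T] : MonoidAlgebra R M →ₐ[R] MonoidAlgebra T M :=
  MonoidAlgebra.lift R (MonoidAlgebra T M) M (MonoidAlgebra.of T M)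

@[simp] theorem baseT_single (T : Type u) [CommRing T] [Algebra R T] (m : M) :
    baseT T (MonoidAlgebra.single m (1 : R)) = MonoidAlgebra.single m 1 := by
  simp [baseT]

@[simp] theorem mda_single {T : Type u} [CommRing T] {M N : Type u} [Monoid M] [Monoid N] (f : M →* N) (m : M) (r : T) :
    MonoidAlgebra.mapDomainAlgHom T T f (MonoidAlgebra.single m r) = MonoidAlgebra.single (f m) r :=
  MonoidAlgebra.mapDomain_single

theorem mda_inl {T : Type u} [CommRing T] (m : M) (r : T) :
    MonoidAlgebra.mapDomainAlgHom T T (MonoidHom.inl M M) (MonoidAlgebra.single m r) = MonoidAlgebra.single (m, 1) r :=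
  MonoidAlgebra.mapDomain_single

theorem mda_inr {T : Type u} [CommRing T] (m : M) (r : T) :
    MonoidAlgebra.mapDomainAlgHom T T (MonoidHom.inr M M) (MonoidAlgebra.single m r) = MonoidAlgebra.single (1, m) r :=
  MonoidAlgebra.mapDomain_single

theorem mda_diag {T : Type u} [CommRing T] (m : M) (r : T) :
    MonoidAlgebra.mapDomainAlgHom T T ((MonoidHom.id M).prod (MonoidHom.id M)) (MonoidAlgebra.single m r) =
      MonoidAlgebra.single (m, m) r :=
  MonoidAlgebra.mapDomain_single

theorem single_mul_diag {T : Type u} [CommRing T] (m : M) :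
    (MonoidAlgebra.single (m, 1) 1 * MonoidAlgebra.single (1, m) 1 : MonoidAlgebra T (M × M)) =
      MonoidAlgebra.single (m, m) 1 := by
  rw [MonoidAlgebra.single_mul_single, Prod.mk_mul_mk, _root_.one_mul, _root_.mul_one, _root_.mul_one]

theorem point_mul {C : Type u} [CommRing C] [Algebra R C] {f g h : MonoidAlgebra R M →ₐ[R] C}
    (hfg : ∀ m, f (MonoidAlgebra.single m 1) * g (MonoidAlgebra.single m 1) = h (MonoidAlgebra.single m 1)) :
    spMap f * spMap g = spMap h := by
  rw [spMap_mul]
  congr 1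
  exact MonoidAlgebra.algHom_ext (fun m => (mul_single f g m).trans (hfg m)) (by ext)

section Rigid

variable {B : Type u} [CommRing B] [Algebra R B] (j : sp R B ⟶ G) [IsOpenImmersion j.left]
  {T : Type u} [CommRing T] [Algebra R T] (I : Ideal T)

theorem one_range (hj : ∀ s, (1 : sp R T ⟶ G).left s ∈ Set.range j.left) (C : Type u) [CommRing C] [Algebra R C]
    [Algebra T C] [IsScalarTower R T C] (s : (sp R C).left) : (1 : sp R C ⟶ G).left s ∈ Set.range j.left := by
  rw [← MonObj.comp_one (spMap (IsScalarTower.toAlgHom R T C)), Over.comp_left, Scheme.Hom.comp_apply]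
  exact hj _

omit [IsMonHom u] [IsMonHom v] in
theorem Near.map {C C' : Type u} [CommRing C] [Algebra R C] [CommRing C'] [Algebra R C'] {J : Ideal C} {J' : Ideal C'}
    (f : C →ₐ[R] C') (hf : J ≤ J'.comap f) {p : sp R C ⟶ G} (hp : Near J p) : Near J' (spMap f ≫ p) := by
  show spMap (Ideal.Quotient.mkₐ R J') ≫ spMap f ≫ p = 1
  rw [← Category.assoc, spMap_comp,
    show (Ideal.Quotient.mkₐ R J').comp f = (Ideal.quotientMapₐ J' f hf).comp (Ideal.Quotient.mkₐ R J) from
      AlgHom.ext fun _ => rfl, ← spMap_comp, Category.assoc, hp, MonObj.comp_one]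

/-- Rigidity. -/
theorem eq_of_near [IsLocalRing T] (hmI : ∀ m ∈ IsLocalRing.maximalIdeal T, ∀ i ∈ I, m * i = 0)
    (hIm : I ≤ IsLocalRing.maximalIdeal T) (hj : ∀ s, (1 : sp R T ⟶ G).left s ∈ Set.range j.left)
    (hc : ∀ (T' : Type u) [CommRing T'] [Algebra R T'] [Algebra T T'] [IsScalarTower R T T'],
      (∀ m ∈ IsLocalRing.maximalIdeal T, algebraMap T T' m = 0) → ∀ (q : sp R T' ⟶ G) (x : sp R T' ⟶ sp R (MonoidAlgebra R M)),
      q * (x ≫ u) = (x ≫ u) * q)
    (hn : spMap ((Ideal.Quotient.mkₐ R (I.map (algebraMap T (MonoidAlgebra T M)))).comp (baseT T)) ≫ u =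
      spMap ((Ideal.Quotient.mkₐ R (I.map (algebraMap T (MonoidAlgebra T M)))).comp (baseT T)) ≫ v) :
    spMap (baseT T) ≫ u = spMap (baseT T) ≫ v := by
  let C := MonoidAlgebra T M
  let C2 := MonoidAlgebra T (M × M)
  let J := I.map (algebraMap T C)
  let J2 := I.map (algebraMap T C2)
  let il : C →ₐ[T] C2 := MonoidAlgebra.mapDomainAlgHom T T (MonoidHom.inl M M)
  let ir : C →ₐ[T] C2 := MonoidAlgebra.mapDomainAlgHom T T (MonoidHom.inr M M)
  let dg : C →ₐ[T] C2 := MonoidAlgebra.mapDomainAlgHom T T ((MonoidHom.id M).prod (MonoidHom.id M))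
  have hI2 : I * I = ⊥ := eq_bot_iff.mpr (Ideal.mul_le.mpr fun a ha b hb => Ideal.mem_bot.mpr (hmI a (hIm ha) b hb))
  have hJ2 : J2 * J2 = ⊥ := by rw [← Ideal.map_mul, hI2, Ideal.map_bot]
  have hJ : J * J = ⊥ := by rw [← Ideal.map_mul, hI2, Ideal.map_bot]
  let U : sp R C ⟶ sp R (MonoidAlgebra R M) := spMap (baseT T)
  let w : sp R C ⟶ G := (U ≫ u) * (U ≫ v)⁻¹
  have hw : Near J w := by
    show spMap (Ideal.Quotient.mkₐ R J) ≫ ((U ≫ u) * (U ≫ v)⁻¹) = 1
    rw [MonObj.comp_mul, GrpObj.comp_inv, ← Category.assoc, ← Category.assoc, spMap_comp, hn, mul_inv_cancel]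
  have hle : ∀ f : C →ₐ[T] C2, J ≤ J2.comap (f.restrictScalars R) := fun f => by
    rw [Ideal.map_le_iff_le_comap]
    intro i hi
    show f (algebraMap T C i) ∈ J2
    rw [AlgHom.commutes]
    exact Ideal.mem_map_of_mem _ hi
  let pt : (C →ₐ[T] C2) → (sp R C2 ⟶ sp R C) := fun f => spMap (f.restrictScalars R)
  have hxy : (pt il ≫ U) * (pt ir ≫ U) = pt dg ≫ U := by
    simp only [pt, U, spMap_comp]
    refine point_mul fun m => ?_
    show il (baseT T (MonoidAlgebra.single m 1)) * ir (baseT T (MonoidAlgebra.single m 1)) =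
      dg (baseT T (MonoidAlgebra.single m 1))
    rw [baseT_single]
    simp only [il, ir, dg]
    exact (congrArg₂ (· * ·) (mda_inl m 1) (mda_inr m 1)).trans ((single_mul_diag m).trans (mda_diag m 1).symm)
  have hpu : ∀ f, pt f ≫ w = (pt f ≫ U ≫ u) * (pt f ≫ U ≫ v)⁻¹ := fun f => by
    simp only [w, MonObj.comp_mul, GrpObj.comp_inv]
  have hcomm : (pt il ≫ U ≫ u) * (pt ir ≫ w) = (pt ir ≫ w) * (pt il ≫ U ≫ u) := by
    refine comm_of_near j hmI hIm (one_range j hj C2) _ _ (fun T' _ _ _ _ hm q ρ => ?_) (hw.map _ (hle ir))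
    rw [← Category.assoc (pt il), ← Category.assoc _ (pt il ≫ U)]
    exact hc T' hm q _
  have hmul : pt dg ≫ w = (pt ir ≫ w) * (pt il ≫ w) := by
    rw [hpu dg, hpu il, ← Category.assoc, ← Category.assoc, ← hxy, MonObj.mul_comp, MonObj.mul_comp, mul_inv_rev]
    simp only [Category.assoc]
    rw [← _root_.mul_assoc, _root_.mul_assoc (pt il ≫ U ≫ u), ← hpu ir, hcomm, _root_.mul_assoc, ← hpu il]
  obtain ⟨φ₁, hφ₁⟩ := exists_factor j (1 : sp R T ⟶ G) hj
  obtain ⟨φ, hφ⟩ := exists_factor j w (hw.range j hJ (one_range j hj C))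
  let ε : B →ₐ[R] C2 := (IsScalarTower.toAlgHom R T C2).comp φ₁
  have hε : (1 : sp R C2 ⟶ G) = spMap ε ≫ j := by
    show _ = spMap ((IsScalarTower.toAlgHom R T C2).comp φ₁) ≫ j
    rw [← spMap_comp, Category.assoc, ← hφ₁, MonObj.comp_one]
  have hproj : ∀ f : C →ₐ[T] C2, pt f ≫ w = spMap ((f.restrictScalars R).comp φ) ≫ j := fun f => by
    rw [hφ, ← Category.assoc, spMap_comp]
  have key : ∀ b, φ b = algebraMap T C (φ₁ b) := fun b => by
    have h := mul_of_near j hJ2 (one_range j hj C2) (hw.map _ (hle ir)) (hw.map _ (hle il)) hε (hproj ir) (hproj il)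
      (hmul.symm.trans (hproj dg)) b
    change dg (φ b) = ir (φ b) + il (φ b) - algebraMap T C2 (φ₁ b) at h
    rw [← sub_eq_zero]
    set a := φ b - algebraMap T C (φ₁ b) with ha
    have hd : dg a = il a + ir a := by
      simp only [ha, map_sub, AlgHom.commutes, h]
      ring
    refine MonoidAlgebra.ext (Finsupp.ext fun m => ?_)
    have hcoef := congrArg (fun z : C2 => z.coeff (m, m)) hd
    change (MonoidAlgebra.mapDomain ((MonoidHom.id M).prod (MonoidHom.id M)) a).coeff (m, m) =
      (MonoidAlgebra.mapDomain (MonoidHom.inl M M) a + MonoidAlgebra.mapDomain (MonoidHom.inr M M) a).coeff (m, m) at hcoef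
    have h1 : (MonoidAlgebra.mapDomain ((MonoidHom.id M).prod (MonoidHom.id M)) a).coeff (m, m) = a.coeff m :=
      Finsupp.mapDomain_apply (f := ((MonoidHom.id M).prod (MonoidHom.id M))) (fun _ _ h => congrArg Prod.fst h) _ _
    rw [h1, MonoidAlgebra.coeff_add, Finsupp.add_apply] at hcoef
    show a.coeff m = 0
    by_cases hm : m = 1
    · subst hm
      have h2 : (MonoidAlgebra.mapDomain (MonoidHom.inl M M) a).coeff (1, 1) = a.coeff 1 :=
        Finsupp.mapDomain_apply (f := MonoidHom.inl M M) (fun _ _ h => congrArg Prod.fst h) _ _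
      have h3 : (MonoidAlgebra.mapDomain (MonoidHom.inr M M) a).coeff (1, 1) = a.coeff 1 :=
        Finsupp.mapDomain_apply (f := MonoidHom.inr M M) (fun _ _ h => congrArg Prod.snd h) _ _
      rw [h2, h3] at hcoef
      simpa using hcoef
    · have h2 : (MonoidAlgebra.mapDomain (MonoidHom.inl M M) a).coeff (m, m) = 0 :=
        Finsupp.mapDomain_of_notMem_range _ _ fun ⟨x, hx⟩ => hm (congrArg Prod.snd hx).symm
      have h3 : (MonoidAlgebra.mapDomain (MonoidHom.inr M M) a).coeff (m, m) = 0 :=
        Finsupp.mapDomain_of_notMem_range _ _ fun ⟨x, hx⟩ => hm (congrArg Prod.fst hx).symm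
      rw [h2, h3, add_zero] at hcoef
      exact hcoef
  have hone : w = 1 := by
    rw [hφ, show φ = (IsScalarTower.toAlgHom R T C).comp φ₁ from AlgHom.ext key, ← spMap_comp, Category.assoc,
      ← hφ₁, MonObj.comp_one]
  exact mul_inv_eq_one.mp hone

end Rigid

section Dense

variable {T : Type u} [CommRing T] [Algebra R T] {L : Type} [CommGroup L] [UniqueProds L] (π : M →* L)

open scoped Classical in
/-- The part of degree one of an element for a grading of the characters. -/
noncomputable def kerPart {T : Type u} [CommRing T] (h : MonoidAlgebra T M) : MonoidAlgebra T M :=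
  MonoidAlgebra.ofCoeff (h.coeff.filter fun m => π m = 1)

omit [UniqueProds L] in
theorem coeff_lift {K : Type u} [CommRing K] [Algebra T K] (χ : M →* K) (h : MonoidAlgebra T M) :
    (MonoidAlgebra.lift T (MonoidAlgebra K L) M
      ((MonoidAlgebra.singleHom : K × L →* MonoidAlgebra K L).comp (χ.prod π)) h).coeff 1 =
      MonoidAlgebra.lift T K M χ (kerPart π h) := by
  classical
  induction h using MonoidAlgebra.induction_linear with
  | zero => simp [kerPart]; rfl
  | add x y hx hy =>
    rw [map_add, MonoidAlgebra.coeff_add, Finsupp.add_apply, hx, hy, ← map_add]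
    congr 1
    simp [kerPart, Finsupp.filter_add]
  | single m r =>
    rw [MonoidAlgebra.lift_single]
    show (r • MonoidAlgebra.single (π m) (χ m)).coeff 1 = _
    rw [MonoidAlgebra.smul_single, MonoidAlgebra.coeff_single, Finsupp.single_apply]
    by_cases hm : π m = 1
    · rw [if_pos hm, show kerPart π (MonoidAlgebra.single m r) = MonoidAlgebra.single m r from
        MonoidAlgebra.ext (by simp only [kerPart, MonoidAlgebra.coeff_single]; exact Finsupp.filter_single_of_pos _ hm),
        MonoidAlgebra.lift_single]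
    · rw [if_neg hm, show kerPart π (MonoidAlgebra.single m r) = 0 from
        MonoidAlgebra.ext (by simp only [kerPart, MonoidAlgebra.coeff_single]; exact Finsupp.filter_single_of_neg _ hm),
        map_zero]

omit [IsMonHom u] [IsMonHom v] in
/-- A point in the open sees no difference. -/
theorem eq_of_unit {C Q : Type u} [CommRing C] [Algebra R C] [CommRing Q] [Algebra R Q] (h : C)
    (a : MonoidAlgebra R M →ₐ[R] C)
    (he : spMap ((IsScalarTower.toAlgHom R C (Localization.Away h)).comp a) ≫ u =
      spMap ((IsScalarTower.toAlgHom R C (Localization.Away h)).comp a) ≫ v)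
    (f : C →ₐ[R] Q) (hu : IsUnit (f h)) : spMap (f.comp a) ≫ u = spMap (f.comp a) ≫ v := by
  let g : Localization.Away h →ₐ[R] Q :=
    { IsLocalization.Away.lift h (g := f.toRingHom) hu with
      commutes' := fun r => by
        show IsLocalization.Away.lift h hu (algebraMap R (Localization.Away h) r) = _
        rw [IsScalarTower.algebraMap_apply R C (Localization.Away h), IsLocalization.Away.lift_eq]
        exact f.commutes r }
  have hg : f.comp a = g.comp ((IsScalarTower.toAlgHom R C (Localization.Away h)).comp a) :=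
    AlgHom.ext fun x => (IsLocalization.Away.lift_eq h hu (a x)).symm
  rw [hg, ← spMap_comp, Category.assoc, Category.assoc, he]

/-- A faithfully flat algebra map gives an epimorphism of spectra. -/
theorem epi_spMap {A A' : Type u} [CommRing A] [Algebra R A] [CommRing A'] [Algebra R A'] (f : A →ₐ[R] A')
    (hf : f.toRingHom.Flat) (hs : Function.Surjective (PrimeSpectrum.comap f.toRingHom)) : Epi (spMap f) := by
  haveI : Flat (spMap f).left := (HasRingHomProperty.Spec_iff (P := @Flat)).mpr hf
  haveI : Surjective (spMap f).left := ⟨hs⟩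
  haveI : QuasiCompact (spMap f).left := inferInstanceAs (QuasiCompact (Spec.map _))
  haveI : Epi (spMap f).left := inferInstance
  exact Over.epi_of_epi_left _

omit [Algebra R T] in
theorem flat_diag : (MonoidAlgebra.mapDomainAlgHom T T ((MonoidHom.id M).prod (MonoidHom.id M))).toRingHom.Flat := by
  let e : M × M ≃* M × M :=
    { toFun := fun p => (p.1 * p.2, p.2)
      invFun := fun p => (p.1 * p.2⁻¹, p.2)
      left_inv := fun p => by simp
      right_inv := fun p => by simp
      map_mul' := fun p q => Prod.ext (_root_.mul_mul_mul_comm p.1 q.1 p.2 q.2) rfl }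
  let e₁ : MonoidAlgebra (MonoidAlgebra T M) M ≃ₐ[T] MonoidAlgebra T (M × M) :=
    (MonoidAlgebra.curryAlgEquiv T).symm.trans (MonoidAlgebra.domCongr T T e)
  rw [show MonoidAlgebra.mapDomainAlgHom T T ((MonoidHom.id M).prod (MonoidHom.id M)) =
      e₁.toAlgHom.comp (MonoidAlgebra.singleOneAlgHom : MonoidAlgebra T M →ₐ[T] MonoidAlgebra (MonoidAlgebra T M) M) from
    MonoidAlgebra.algHom_ext (fun m => by simp [e₁, e, MonoidAlgebra.singleOneAlgHom]) (by ext)]
  exact RingHom.Flat.comp (RingHom.flat_algebraMap_iff.mpr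
    (inferInstance : Module.Flat (MonoidAlgebra T M) (MonoidAlgebra (MonoidAlgebra T M) M)))
    (RingHom.Flat.of_bijective e₁.bijective)

omit [Algebra R T] in
/-- Every point of the group is a product of two points of the open. -/
theorem surjective_diag (h : MonoidAlgebra T M) (hh : IsUnit (kerPart π h)) :
    Function.Surjective (PrimeSpectrum.comap ((algebraMap (MonoidAlgebra T (M × M)) (Localization.Away
      (MonoidAlgebra.mapDomainAlgHom T T (MonoidHom.inl M M) h * MonoidAlgebra.mapDomainAlgHom T T (MonoidHom.inr M M) h))).comp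
        (MonoidAlgebra.mapDomainAlgHom T T ((MonoidHom.id M).prod (MonoidHom.id M))).toRingHom)) := fun P => by
  let C := MonoidAlgebra T M
  let C2 := MonoidAlgebra T (M × M)
  let il : C →ₐ[T] C2 := MonoidAlgebra.mapDomainAlgHom T T (MonoidHom.inl M M)
  let ir : C →ₐ[T] C2 := MonoidAlgebra.mapDomainAlgHom T T (MonoidHom.inr M M)
  let dg : C →ₐ[T] C2 := MonoidAlgebra.mapDomainAlgHom T T ((MonoidHom.id M).prod (MonoidHom.id M))
  let H := il h * ir h
  let K := P.asIdeal.ResidueField
  let x : M →* K := (algebraMap C K).toMonoidHom.comp (MonoidAlgebra.of T M)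
  let K₂ := FractionRing (MonoidAlgebra K L)
  haveI : IsDomain (MonoidAlgebra K L) := NoZeroDivisors.to_isDomain _
  let c : MonoidAlgebra K L →+* K₂ := algebraMap _ _
  let sh : K × L →* MonoidAlgebra K L := MonoidAlgebra.singleHom
  let y : M →* MonoidAlgebra K L := sh.comp (x.prod π)
  let z : M →* MonoidAlgebra K L := sh.comp ((1 : M →* K).prod π⁻¹)
  let χ : M × M →* MonoidAlgebra K L := (y.comp (MonoidHom.fst M M)) * (z.comp (MonoidHom.snd M M))
  let Θ : C2 →ₐ[T] MonoidAlgebra K L := MonoidAlgebra.lift T _ _ χ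
  have hΘ : ∀ a b : M, Θ (MonoidAlgebra.single (a, b) 1) = y a * z b := fun a b => MonoidAlgebra.lift_of χ (a, b)
  have hfield : ∀ (χ' : M →* K) (π' : M →* L), kerPart π' h = kerPart π h →
      MonoidAlgebra.lift T (MonoidAlgebra K L) M (sh.comp (χ'.prod π')) h ≠ 0 := fun χ' π' hk hz => by
    have h1 := coeff_lift π' χ' h
    rw [hz, hk] at h1
    exact (hh.map (MonoidAlgebra.lift T K M χ')).ne_zero h1.symm
  have hil0 : Θ (il h) ≠ 0 := by
    rw [show Θ (il h) = MonoidAlgebra.lift T (MonoidAlgebra K L) M y h from DFunLike.congr_fun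
      (MonoidAlgebra.algHom_ext (φ₁ := Θ.comp il) (φ₂ := MonoidAlgebra.lift T _ _ y)
        (fun m => by show Θ (il (MonoidAlgebra.single m 1)) = _; rw [mda_inl, hΘ, map_one z, _root_.mul_one]; exact (MonoidAlgebra.lift_of y m).symm) (by ext)) h]
    exact hfield x π rfl
  have hir0 : Θ (ir h) ≠ 0 := by
    rw [show Θ (ir h) = MonoidAlgebra.lift T (MonoidAlgebra K L) M z h from DFunLike.congr_fun
      (MonoidAlgebra.algHom_ext (φ₁ := Θ.comp ir) (φ₂ := MonoidAlgebra.lift T _ _ z)
        (fun m => by show Θ (ir (MonoidAlgebra.single m 1)) = _; rw [mda_inr, hΘ, map_one y, _root_.one_mul]; exact (MonoidAlgebra.lift_of z m).symm) (by ext)) h]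
    refine hfield 1 π⁻¹ ?_
    unfold kerPart
    congr 1
    exact Finsupp.ext fun m => by
      rw [Finsupp.filter_apply, Finsupp.filter_apply]
      classical
      exact if_congr _root_.inv_eq_one rfl rfl
  have hu : IsUnit ((c.comp Θ.toRingHom) H) := isUnit_iff_ne_zero.mpr (by
    show c (Θ (il h * ir h)) ≠ 0
    rw [map_mul]
    exact fun h0 => mul_ne_zero hil0 hir0 (IsFractionRing.injective (MonoidAlgebra K L) K₂ (h0.trans (map_zero c).symm)))
  let Θ' : Localization.Away H →+* K₂ := IsLocalization.Away.lift H hu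
  refine ⟨⟨RingHom.ker Θ', RingHom.ker_isPrime _⟩, PrimeSpectrum.ext ?_⟩
  show Ideal.comap ((algebraMap C2 (Localization.Away H)).comp dg.toRingHom) (RingHom.ker Θ') = P.asIdeal
  have h1 : Θ'.comp (algebraMap C2 (Localization.Away H)) = c.comp Θ.toRingHom := IsLocalization.Away.lift_comp H hu
  have hcomp : Θ.toRingHom.comp dg.toRingHom = MonoidAlgebra.singleOneRingHom.comp (algebraMap C K) := by
    refine MonoidAlgebra.ringHom_ext (fun r => ?_) fun m => ?_
    · show Θ (dg (MonoidAlgebra.single 1 r)) = MonoidAlgebra.singleOneRingHom (algebraMap C K (MonoidAlgebra.single 1 r))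
      rw [show (MonoidAlgebra.single 1 r : C) = algebraMap T C r from rfl, AlgHom.commutes, AlgHom.commutes,
        ← IsScalarTower.algebraMap_apply]
      rfl
    · show Θ (dg (MonoidAlgebra.single m 1)) = MonoidAlgebra.singleOneRingHom (algebraMap C K (MonoidAlgebra.single m 1))
      rw [mda_diag]
      rw [hΘ]
      show MonoidAlgebra.single (π m) (x m) * MonoidAlgebra.single (π m)⁻¹ (1 : K) = MonoidAlgebra.single 1 (x m)
      rw [MonoidAlgebra.single_mul_single, _root_.mul_inv_cancel, _root_.mul_one]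
  rw [RingHom.comap_ker, ← RingHom.comp_assoc, h1, RingHom.comp_assoc, hcomp, ← RingHom.comp_assoc,
    RingHom.ker_comp_of_injective _ (RingHom.injective _)]
  · exact Ideal.ker_algebraMap_residueField _

/-- Homomorphisms agreeing on an open which is dense in every fibre agree. -/
theorem eq_of_away (h : MonoidAlgebra T M) (hh : IsUnit (kerPart π h))
    (he : spMap ((IsScalarTower.toAlgHom R (MonoidAlgebra T M) (Localization.Away h)).comp (baseT T)) ≫ u =
      spMap ((IsScalarTower.toAlgHom R (MonoidAlgebra T M) (Localization.Away h)).comp (baseT T)) ≫ v) :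
    spMap (baseT T) ≫ u = spMap (baseT T) ≫ v := by
  let C2 := MonoidAlgebra T (M × M)
  let il := (MonoidAlgebra.mapDomainAlgHom T T (MonoidHom.inl M M)).restrictScalars R
  let ir := (MonoidAlgebra.mapDomainAlgHom T T (MonoidHom.inr M M)).restrictScalars R
  let dg := (MonoidAlgebra.mapDomainAlgHom T T ((MonoidHom.id M).prod (MonoidHom.id M))).restrictScalars R
  let lq : C2 →ₐ[R] Localization.Away (il h * ir h) := IsScalarTower.toAlgHom R C2 _
  have hH : IsUnit (lq (il h * ir h)) := IsLocalization.Away.algebraMap_isUnit (il h * ir h)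
  rw [map_mul] at hH
  have hil := eq_of_unit u v h (baseT T) he (lq.comp il) (isUnit_of_mul_isUnit_left hH)
  have hir := eq_of_unit u v h (baseT T) he (lq.comp ir) (isUnit_of_mul_isUnit_right hH)
  have hxy : spMap ((lq.comp il).comp (baseT T)) * spMap ((lq.comp ir).comp (baseT T)) =
      spMap ((lq.comp dg).comp (baseT T)) := by
    refine point_mul fun m => ?_
    show lq (il (baseT T (MonoidAlgebra.single m 1))) * lq (ir (baseT T (MonoidAlgebra.single m 1))) =
      lq (dg (baseT T (MonoidAlgebra.single m 1)))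
    rw [baseT_single, ← map_mul]
    congr 1
    exact (congrArg₂ (· * ·) (mda_inl m 1) (mda_inr m 1)).trans ((single_mul_diag m).trans (mda_diag m 1).symm)
  have hkey : spMap ((lq.comp dg).comp (baseT T)) ≫ u = spMap ((lq.comp dg).comp (baseT T)) ≫ v := by
    rw [← hxy, MonObj.mul_comp, MonObj.mul_comp, hil, hir]
  rw [← spMap_comp, Category.assoc, Category.assoc] at hkey
  haveI : Epi (spMap (lq.comp dg)) := epi_spMap (lq.comp dg)
    (RingHom.Flat.comp flat_diag (RingHom.flat_algebraMap_iff.mpr
      (IsLocalization.flat _ (Submonoid.powers (il h * ir h))))) (surjective_diag π h hh)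
  exact (cancel_epi _).mp hkey

end Dense

end Groth.Agent.MultCentral18
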