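import Groth.Agent.MultCentral18.Hom
import Mathlib.GroupTheory.FiniteAbelian.Basic
import Mathlib.RingTheory.Nakayama
import Mathlib.RingTheory.Ideal.GoingUp

/-!
# Coefficient lemmas for group algebras
-/

universe u

open scoped Classical

set_option linter.style.haveILetI false

namespace Groth.Agent.MultCentral18

/-- Characters with finite kernel to a free group. -/
theorem exists_grading (M : Type u) [CommGroup M] (hM : Group.FG M) :
    ∃ (L : Type) (_ : CommGroup L) (_ : UniqueProds L) (π : M →* L), Finite π.ker := by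
  haveI := hM
  obtain ⟨n, ι, _, p, hp, e, ⟨f⟩⟩ := AddCommGroup.equiv_free_prod_directSum_zmod (G := Additive M)
  let π : M →* Multiplicative (Fin n →₀ ℤ) :=
    AddMonoidHom.toMultiplicativeRight ((AddMonoidHom.fst _ _).comp f.toAddMonoidHom)
  refine ⟨Multiplicative (Fin n →₀ ℤ), inferInstance, inferInstance, π, ?_⟩
  haveI : ∀ i, NeZero (p i ^ e i) := fun i => ⟨pow_ne_zero _ (hp i).ne_zero⟩
  haveI : Finite (DirectSum ι fun i => ZMod (p i ^ e i)) := Finite.of_equiv _ DFinsupp.equivFunOnFintype.symm
  refine Finite.of_injective (fun m : π.ker => (f (Additive.ofMul (m : M))).2) fun a b h => Subtype.ext ?_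
  have ha : (f (Additive.ofMul (a : M))).1 = 0 := congrArg Multiplicative.toAdd (MonoidHom.mem_ker.mp a.2)
  have hb : (f (Additive.ofMul (b : M))).1 = 0 := congrArg Multiplicative.toAdd (MonoidHom.mem_ker.mp b.2)
  exact Additive.ofMul.injective (f.injective (Prod.ext (ha.trans hb.symm) h))

variable {R : Type u} [CommRing R] {M : Type u} [CommGroup M]

theorem mem_map_iff (I : Ideal R) (z : MonoidAlgebra R M) :
    z ∈ I.map (algebraMap R (MonoidAlgebra R M)) ↔ ∀ m, z.coeff m ∈ I := by
  constructor
  · intro hz
    induction hz using Submodule.span_induction with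
    | mem x hx =>
      obtain ⟨r, hr, rfl⟩ := hx
      intro m
      rw [show algebraMap R (MonoidAlgebra R M) r = MonoidAlgebra.single 1 r from rfl, MonoidAlgebra.coeff_single,
        Finsupp.single_apply]
      split_ifs
      exacts [hr, zero_mem _]
    | zero => exact fun m => by simp
    | add x y _ _ hx hy => exact fun m => by rw [MonoidAlgebra.coeff_add, Finsupp.add_apply]; exact add_mem (hx m) (hy m)
    | smul a x _ hx =>
      rw [smul_eq_mul]
      induction a using MonoidAlgebra.induction_linear with
      | zero => exact fun m => by simp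
      | add a b ha hb =>
        exact fun m => by rw [add_mul, MonoidAlgebra.coeff_add, Finsupp.add_apply]; exact add_mem (ha m) (hb m)
      | single k r =>
        intro m
        rw [MonoidAlgebra.coeff_single_mul_apply]
        exact I.mul_mem_left _ (hx _)
  · intro hz
    rw [← MonoidAlgebra.sum_coeff_single z]
    refine Ideal.sum_mem _ fun m _ => ?_
    show MonoidAlgebra.single m (z.coeff m) ∈ _
    rw [show MonoidAlgebra.single m (z.coeff m) =
      MonoidAlgebra.single m 1 * algebraMap R (MonoidAlgebra R M) (z.coeff m) by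
        rw [show algebraMap R (MonoidAlgebra R M) (z.coeff m) = MonoidAlgebra.single 1 (z.coeff m) from rfl,
          MonoidAlgebra.single_mul_single, _root_.mul_one, _root_.one_mul]]
    exact Ideal.mul_mem_left _ _ (Ideal.mem_map_of_mem _ (hz m))

/-- An element congruent to a unit scalar modulo the maximal ideal is not a zero divisor. -/
theorem eq_zero_of_mul_eq_zero {T : Type u} [CommRing T] [IsLocalRing T] {h x : MonoidAlgebra T M} {s : T}
    (hs : IsUnit s) (hh : h - algebraMap T _ s ∈ (IsLocalRing.maximalIdeal T).map (algebraMap T (MonoidAlgebra T M)))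
    (hx : x * h = 0) : x = 0 := by
  let c : Ideal T := Ideal.span (x.coeff.support.image x.coeff : Finset T)
  have hxc : ∀ m, x.coeff m ∈ c := fun m => by
    by_cases hm : m ∈ x.coeff.support
    · exact Ideal.subset_span (Finset.mem_coe.mpr (Finset.mem_image_of_mem _ hm))
    · rw [Finsupp.notMem_support_iff.mp hm]
      exact zero_mem _
  suffices hc : c ≤ IsLocalRing.maximalIdeal T • c by
    have h0 : c = ⊥ := Submodule.eq_bot_of_le_smul_of_le_jacobson_bot (IsLocalRing.maximalIdeal T) c
      (Submodule.fg_span (Finset.finite_toSet _)) hc (IsLocalRing.maximalIdeal_le_jacobson ⊥)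
    refine MonoidAlgebra.ext (Finsupp.ext fun m => ?_)
    have := hxc m
    rw [h0, Ideal.mem_bot] at this
    exact this
  refine Ideal.span_le.mpr ?_
  rw [Finset.coe_image]
  rintro _ ⟨m, -, rfl⟩
  have hxm : x ∈ c.map (algebraMap T (MonoidAlgebra T M)) := (mem_map_iff c x).mpr hxc
  have h1 : x * algebraMap T _ s ∈
      ((IsLocalRing.maximalIdeal T) * c).map (algebraMap T (MonoidAlgebra T M)) := by
    rw [Ideal.map_mul, mul_comm ((IsLocalRing.maximalIdeal T).map _)]
    have e : x * algebraMap T (MonoidAlgebra T M) s = x * (algebraMap T _ s - h) := by rw [mul_sub, hx, sub_zero]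
    rw [e]
    exact Ideal.mul_mem_mul hxm (by rw [← neg_sub]; exact neg_mem hh)
  have h2 := (mem_map_iff _ _).mp h1 m
  rw [show algebraMap T (MonoidAlgebra T M) s = MonoidAlgebra.single 1 s from rfl, MonoidAlgebra.coeff_mul_single_apply] at h2
  rw [inv_one, _root_.mul_one, Ideal.mul_unit_mem_iff_mem _ hs] at h2
  exact h2

theorem kerPart_coeff {L : Type} [CommGroup L] (π : M →* L) (h : MonoidAlgebra R M) (m : M) :
    (kerPart π h).coeff m = if π m = 1 then h.coeff m else 0 := Finsupp.filter_apply _ _ _

/-- A homogeneous part of degree one congruent to a scalar prime to `p` is invertible near `p`. -/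
theorem exists_kerPart_dvd {L : Type} [CommGroup L] (π : M →* L) [Finite π.ker] (h : MonoidAlgebra R M)
    (p : Ideal R) [p.IsPrime] {s : R} (hs : s ∉ p)
    (hh : h - algebraMap R _ s ∈ p.map (algebraMap R (MonoidAlgebra R M))) :
    ∃ r ∉ p, kerPart π h ∣ algebraMap R (MonoidAlgebra R M) r := by
  let F := MonoidAlgebra R π.ker
  let f : F := MonoidAlgebra.comapDomain (fun m : π.ker => (m : M)) Subtype.val_injective h
  let ι : F →ₐ[R] MonoidAlgebra R M := MonoidAlgebra.mapDomainAlgHom R R π.ker.subtype
  have hf : ι f = kerPart π h := by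
    refine MonoidAlgebra.ext (Finsupp.ext fun m => ?_)
    show (MonoidAlgebra.mapDomain π.ker.subtype f).coeff m = _
    rw [kerPart_coeff]
    split_ifs with hm
    · exact (Finsupp.mapDomain_apply (f := π.ker.subtype) Subtype.val_injective f.coeff ⟨m, hm⟩).trans rfl
    · exact Finsupp.mapDomain_of_notMem_range _ _ fun ⟨k, hk⟩ => hm (hk ▸ k.2)
  haveI : Algebra.IsIntegral R F := inferInstance
  by_cases hle : (Ideal.span {f}).comap (algebraMap R F) ≤ p
  · obtain ⟨Q, hfQ, hQ, hQp⟩ := Ideal.exists_ideal_over_prime_of_isIntegral p (Ideal.span {f}) hle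
    exfalso
    have hfs : f - algebraMap R F s ∈ Q := by
      have h1 : f - algebraMap R F s ∈ p.map (algebraMap R F) := (mem_map_iff p _).mpr fun k => by
        have h2 := (mem_map_iff p _).mp hh (k : M)
        rw [MonoidAlgebra.coeff_sub, Finsupp.sub_apply, show algebraMap R (MonoidAlgebra R M) s = MonoidAlgebra.single 1 s from rfl,
          MonoidAlgebra.coeff_single, Finsupp.single_apply] at h2
        rw [MonoidAlgebra.coeff_sub, Finsupp.sub_apply, show algebraMap R F s = MonoidAlgebra.single 1 s from rfl,
          MonoidAlgebra.coeff_single, Finsupp.single_apply]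
        by_cases hk : (1 : π.ker) = k
        · rw [if_pos hk]
          rw [if_pos (show (1 : M) = (k : M) from congrArg Subtype.val hk)] at h2
          exact h2
        · rw [if_neg hk]
          rw [if_neg fun (e : (1 : M) = (k : M)) => hk (Subtype.ext e)] at h2
          exact h2
      refine Ideal.map_le_iff_le_comap.mpr (le_of_eq hQp.symm) h1
    have : algebraMap R F s ∈ Q := by
      have := sub_mem (hfQ (Ideal.mem_span_singleton_self f)) hfs
      rwa [sub_sub_cancel] at this
    exact hs (hQp.le this)
  · obtain ⟨r, hr, hrp⟩ := SetLike.not_le_iff_exists.mp hle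
    obtain ⟨g, hg⟩ := Ideal.mem_span_singleton.mp hr
    exact ⟨r, hrp, ι g, by rw [← hf, ← map_mul, ← hg, AlgHom.commutes]⟩

theorem map_kerPart {L : Type} [CommGroup L] (π : M →* L) {T : Type u} [CommRing T] (f : R →+* T)
    (h : MonoidAlgebra R M) : kerPart π (MonoidAlgebra.mapRingHom M f h) = MonoidAlgebra.mapRingHom M f (kerPart π h) :=
  MonoidAlgebra.ext (Finsupp.ext fun m => by
    rw [kerPart_coeff]
    show (if π m = 1 then f (h.coeff m) else 0) = f ((kerPart π h).coeff m)
    rw [kerPart_coeff]
    split_ifs
    exacts [rfl, (map_zero f).symm])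

end Groth.Agent.MultCentral18
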