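import Groth.Agent.MultCentral18.Nhd
import Mathlib.RingTheory.Bialgebra.MonoidAlgebra

/-!
# Inclusions of diagonalisable subgroups spread from one fibre
-/

universe u

open CategoryTheory CategoryTheory.Limits MonoidalCategory CartesianMonoidalCategory MonObj AlgebraicGeometry
open WithConv
open Groth.Agent.GrpSchLib.AffineHopf
open Groth.Agent.FreeAct18 (mul_single)

set_option backward.isDefEq.respectTransparency false
set_option linter.style.haveILetI false
set_option synthInstance.maxHeartbeats 400000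
set_option maxHeartbeats 1000000

namespace Groth.Agent.MultCentral18

theorem coeff_inl_mul_inr {T : Type u} [CommRing T] {M : Type u} [CommGroup M] (x y : MonoidAlgebra T M) (a b : M) :
    (MonoidAlgebra.mapDomainAlgHom T T (MonoidHom.inl M M) x *
      MonoidAlgebra.mapDomainAlgHom T T (MonoidHom.inr M M) y).coeff (a, b) = x.coeff a * y.coeff b := by
  classical
  induction x using MonoidAlgebra.induction_linear with
  | zero => simp
  | add f g hf hg => simp only [map_add, add_mul, MonoidAlgebra.coeff_add, Finsupp.add_apply, hf, hg]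
  | single m r =>
    induction y using MonoidAlgebra.induction_linear with
    | zero => simp
    | add f g hf hg => simp only [map_add, mul_add, MonoidAlgebra.coeff_add, Finsupp.add_apply, hf, hg]
    | single n s =>
      rw [mda_inl, mda_inr, MonoidAlgebra.single_mul_single, Prod.mk_mul_mk, _root_.mul_one, _root_.one_mul,
        MonoidAlgebra.coeff_single, MonoidAlgebra.coeff_single, MonoidAlgebra.coeff_single,
        Finsupp.single_apply, Finsupp.single_apply, Finsupp.single_apply]
      by_cases h1 : m = a <;> by_cases h2 : n = b <;> simp [h1, h2]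

/-- The group-like elements of a group algebra over a domain are the group elements. -/
theorem eq_single_of_grouplike {T : Type u} [CommRing T] [IsDomain T] {M : Type u} [CommGroup M] {z : MonoidAlgebra T M}
    (hz : z ≠ 0)
    (h : MonoidAlgebra.mapDomainAlgHom T T ((MonoidHom.id M).prod (MonoidHom.id M)) z =
      MonoidAlgebra.mapDomainAlgHom T T (MonoidHom.inl M M) z * MonoidAlgebra.mapDomainAlgHom T T (MonoidHom.inr M M) z) :
    ∃ a, z = MonoidAlgebra.single a 1 := by
  classical
  have hdiag : ∀ a, (MonoidAlgebra.mapDomainAlgHom T T ((MonoidHom.id M).prod (MonoidHom.id M)) z).coeff (a, a) =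
      z.coeff a := fun a =>
    Finsupp.mapDomain_apply (f := ((MonoidHom.id M).prod (MonoidHom.id M))) (fun _ _ h => congrArg Prod.fst h) _ _
  have hoff : ∀ a b, a ≠ b →
      (MonoidAlgebra.mapDomainAlgHom T T ((MonoidHom.id M).prod (MonoidHom.id M)) z).coeff (a, b) = 0 := fun a b hab =>
    Finsupp.mapDomain_notin_range (f := ((MonoidHom.id M).prod (MonoidHom.id M))) _ _ (by
      rintro ⟨c, hc⟩
      exact hab ((congrArg Prod.fst hc).symm.trans (congrArg Prod.snd hc)))
  obtain ⟨a, ha⟩ : ∃ a, z.coeff a ≠ 0 := by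
    by_contra hne
    push Not at hne
    exact hz (MonoidAlgebra.ext (Finsupp.ext hne))
  have h1 : z.coeff a = 1 := by
    have := hdiag a
    rw [h, coeff_inl_mul_inr] at this
    exact mul_left_cancel₀ ha (this.trans (_root_.mul_one _).symm)
  refine ⟨a, MonoidAlgebra.ext (Finsupp.ext fun b => ?_)⟩
  rw [MonoidAlgebra.coeff_single, Finsupp.single_apply]
  by_cases hb : a = b
  · rw [if_pos hb, ← hb, h1]
  · have := hoff a b hb
    rw [h, coeff_inl_mul_inr, h1, _root_.one_mul] at this
    rw [if_neg hb, this]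

variable {R : Type u} [CommRing R] {G : Over (Spec (CommRingCat.of R))} [GrpObj G] {M₁ M₂ : Type u} [CommGroup M₁]
  [CommGroup M₂] (iA : sp R (MonoidAlgebra R M₂) ⟶ G) [IsMonHom iA] [Mono iA]
  (iB : sp R (MonoidAlgebra R M₁) ⟶ G) [IsMonHom iB]

/-- The inclusion over the fibre comes from a map of character groups. -/
theorem exists_fibre_map (p : Ideal R) [p.IsPrime]
    (hle : ∀ (T : Type u) [CommRing T] [Algebra R T], (∀ r ∈ p, algebraMap R T r = 0) →
      (∀ r ∉ p, IsUnit (algebraMap R T r)) → ∀ b : sp R T ⟶ sp R (MonoidAlgebra R M₁),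
        ∃ a : sp R T ⟶ sp R (MonoidAlgebra R M₂), a ≫ iA = b ≫ iB) :
    ∃ φ : M₂ →* M₁, spMap (baseT p.ResidueField) ≫ iB =
      spMap (baseT p.ResidueField) ≫ spMap ((MonoidAlgebra.mapDomainBialgHom R φ : _ →ₐc[R] _) :
        MonoidAlgebra R M₂ →ₐ[R] MonoidAlgebra R M₁) ≫ iA := by
  let k := p.ResidueField
  let C := MonoidAlgebra k M₁
  let C2 := MonoidAlgebra k (M₁ × M₁)
  obtain ⟨a, ha⟩ := hle C
    (fun r hr => by rw [IsScalarTower.algebraMap_apply R k C, Ideal.algebraMap_residueField_eq_zero.mpr hr, map_zero])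
    (fun r hr => by
      rw [IsScalarTower.algebraMap_apply R k C]
      exact (isUnit_iff_ne_zero.mpr fun h0 => hr (Ideal.algebraMap_residueField_eq_zero.mp h0)).map _)
    (spMap (baseT k))
  obtain ⟨g, rfl⟩ := exists_eq_spMap a
  let il : C →ₐ[k] C2 := MonoidAlgebra.mapDomainAlgHom k k (MonoidHom.inl M₁ M₁)
  let ir : C →ₐ[k] C2 := MonoidAlgebra.mapDomainAlgHom k k (MonoidHom.inr M₁ M₁)
  let dg : C →ₐ[k] C2 := MonoidAlgebra.mapDomainAlgHom k k ((MonoidHom.id M₁).prod (MonoidHom.id M₁))
  let pt : (C →ₐ[k] C2) → (sp R C2 ⟶ sp R C) := fun f => spMap (f.restrictScalars R)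
  have hxy : (pt il ≫ spMap (baseT k)) * (pt ir ≫ spMap (baseT k)) = pt dg ≫ spMap (baseT k) := by
    simp only [pt, spMap_comp]
    refine point_mul fun m => ?_
    show il (baseT k (MonoidAlgebra.single m 1)) * ir (baseT k (MonoidAlgebra.single m 1)) =
      dg (baseT k (MonoidAlgebra.single m 1))
    rw [baseT_single]
    show MonoidAlgebra.mapDomainAlgHom k k _ _ * MonoidAlgebra.mapDomainAlgHom k k _ _ = MonoidAlgebra.mapDomainAlgHom k k _ _
    rw [mda_inl, mda_inr, mda_diag]
    exact single_mul_diag (T := k) m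
  have hag : (pt il ≫ spMap g) * (pt ir ≫ spMap g) = pt dg ≫ spMap g := by
    rw [← cancel_mono iA, MonObj.mul_comp, Category.assoc, Category.assoc, Category.assoc, ha, ← Category.assoc,
      ← Category.assoc (pt ir), ← Category.assoc (pt dg), ← MonObj.mul_comp, hxy]
  simp only [pt, spMap_comp, spMap_mul] at hag
  have hconv : ∀ m, il (g (MonoidAlgebra.single m 1)) * ir (g (MonoidAlgebra.single m 1)) =
      dg (g (MonoidAlgebra.single m 1)) := fun m => by
    have := DFunLike.congr_fun (spMap_injective hag) (MonoidAlgebra.single m (1 : R))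
    exact (mul_single ((il.restrictScalars R).comp g) ((ir.restrictScalars R).comp g) m).symm.trans this
  have hne : ∀ m, g (MonoidAlgebra.single m 1) ≠ 0 := fun m h0 => by
    have h1 : g (MonoidAlgebra.single m 1) * g (MonoidAlgebra.single m⁻¹ 1) = 1 := by
      rw [← map_mul, MonoidAlgebra.single_mul_single, mul_inv_cancel, _root_.one_mul, ← MonoidAlgebra.one_def, map_one]
    rw [h0, zero_mul] at h1
    exact zero_ne_one h1
  choose φ hφ using fun m => eq_single_of_grouplike (hne m) (hconv m).symm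
  have hinj : ∀ {x y : M₁}, (MonoidAlgebra.single x 1 : C) = MonoidAlgebra.single y 1 → x = y := fun h =>
    MonoidAlgebra.of_injective (R := k) h
  let φ' : M₂ →* M₁ := MonoidHom.mk' φ fun x y => hinj (by
    rw [← hφ (x * y), ← _root_.one_mul (1 : k), ← MonoidAlgebra.single_mul_single, ← hφ x, ← hφ y, ← map_mul,
      MonoidAlgebra.single_mul_single, _root_.one_mul])
  refine ⟨φ', ?_⟩
  rw [← ha]
  erw [← Category.assoc, spMap_comp]
  congr 2
  refine MonoidAlgebra.algHom_ext (fun m => ?_) (by ext)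
  show g (MonoidAlgebra.single m 1) = baseT k (MonoidAlgebra.mapDomainBialgHom R φ' (MonoidAlgebra.single m 1))
  rw [show MonoidAlgebra.mapDomainBialgHom R φ' (MonoidAlgebra.single m (1 : R)) = MonoidAlgebra.single (φ m) 1 from
    MonoidAlgebra.mapDomain_single, baseT_single]
  exact hφ m

/-- If one diagonalisable subgroup lies in the other in one fibre and is central there, it does so nearby. -/
theorem exists_away_le (hfin : IsNoetherianRing R ∨ LocallyOfFiniteType G.hom) (hM₁ : Group.FG M₁) (p : Ideal R)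
    [p.IsPrime]
    (hc : ∀ (T : Type u) [CommRing T] [Algebra R T], (∀ r ∈ p, algebraMap R T r = 0) →
      (∀ r ∉ p, IsUnit (algebraMap R T r)) → ∀ (q : sp R T ⟶ G) (x : sp R T ⟶ sp R (MonoidAlgebra R M₁)),
        q * (x ≫ iB) = (x ≫ iB) * q)
    (hle : ∀ (T : Type u) [CommRing T] [Algebra R T], (∀ r ∈ p, algebraMap R T r = 0) →
      (∀ r ∉ p, IsUnit (algebraMap R T r)) → ∀ b : sp R T ⟶ sp R (MonoidAlgebra R M₁),
        ∃ a : sp R T ⟶ sp R (MonoidAlgebra R M₂), a ≫ iA = b ≫ iB) :
    ∃ r ∉ p, ∀ (T : Type u) [CommRing T] [Algebra R T], IsUnit (algebraMap R T r) →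
      ∀ b : sp R T ⟶ sp R (MonoidAlgebra R M₁), ∃ a : sp R T ⟶ sp R (MonoidAlgebra R M₂), a ≫ iA = b ≫ iB := by
  obtain ⟨φ, hφ⟩ := exists_fibre_map iA iB p hle
  let m : sp R (MonoidAlgebra R M₁) ⟶ sp R (MonoidAlgebra R M₂) :=
    spMap ((MonoidAlgebra.mapDomainBialgHom R φ : _ →ₐc[R] _) : MonoidAlgebra R M₂ →ₐ[R] MonoidAlgebra R M₁)
  haveI : IsMonHom m := isMonHom_spMap _
  obtain ⟨r, hr, heq⟩ := exists_nhd iB (m ≫ iA) hfin hM₁ p hc hφ
  refine ⟨r, hr, fun T _ _ hT b => ?_⟩
  let ψ : Localization.Away r →ₐ[R] T :=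
    { IsLocalization.Away.lift r hT with commutes' := fun x => IsLocalization.Away.lift_eq r hT x }
  letI : Algebra (Localization.Away r) T := ψ.toRingHom.toAlgebra
  haveI : IsScalarTower R (Localization.Away r) T := IsScalarTower.of_algebraMap_eq fun x => (ψ.commutes x).symm
  obtain ⟨g, rfl⟩ := exists_eq_spMap b
  exact ⟨spMap g ≫ m, (Category.assoc _ _ _).trans (point_eq iB (m ≫ iA) heq g).symm⟩

end Groth.Agent.MultCentral18
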