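import Groth.Agent.MultCentral18.Split
import Groth.Agent.MultCentral18.Local
import Groth.Agent.DSPtsLib.Basic
import Groth.Agent.GrpSchLib.SubgroupEqLocus

/-!
# An inclusion of central subgroups of multiplicative type in one fibre holds over a neighbourhood
-/

universe u

open CategoryTheory CategoryTheory.Limits MonoidalCategory CartesianMonoidalCategory MonObj AlgebraicGeometry
open Groth.Agent.GrpSchLib.AffineHopf Groth.Agent.GrpSchLib
open Groth.Agent.GrpSchLib.SubgroupEqLocus (Le)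

set_option backward.isDefEq.respectTransparency false
set_option linter.style.haveILetI false
set_option synthInstance.maxHeartbeats 400000
set_option maxHeartbeats 1000000

namespace Groth.Agent.MultCentral18

variable {S : Scheme.{u}} {G A B : Over S}

theorem theta_map {U : Scheme.{u}} (g : U ⟶ S) {Y : Over U} (b : Y ⟶ Red.bc g B) (i : B ⟶ G) :
    DSPtsLib.theta g (b ≫ (Over.pullback g).map i) = DSPtsLib.theta g b ≫ i :=
  (Over.mapPullbackAdj g).homEquiv_naturality_right_symm b i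

/-- A map from the spectrum of a field into a scheme factors through the residue field of its image. -/
theorem exists_factor_residueField {K : Type u} [Field K] (g : Spec (CommRingCat.of K) ⟶ S) (s : S)
    (hg : ∀ x, g.base x = s) : ∃ l, l ≫ S.fromSpecResidueField s = g := by
  obtain ⟨⟨x, a⟩, rfl⟩ := (Scheme.SpecToEquivOfField K S).symm.surjective g
  have hxs : x = s := by
    rw [← hg (IsLocalRing.closedPoint K)]
    exact (Scheme.fromSpecResidueField_apply x _).symm
  subst hxs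
  exact ⟨Spec.map a, rfl⟩

/-- Rings above a prime over `s` give points over the residue field of `s`. -/
theorem exists_over_residueField {R : Type u} [CommRing R] (β : Spec (CommRingCat.of R) ⟶ S) (s : S)
    (p : PrimeSpectrum R) (hp : β.base p = s) {T : Type u} [CommRing T] [Algebra R T]
    (hkill : ∀ r ∈ p.asIdeal, algebraMap R T r = 0) (hunit : ∀ r ∉ p.asIdeal, IsUnit (algebraMap R T r)) :
    Nonempty ((Over.map β).obj (sp R T) ⟶ Over.mk (S.fromSpecResidueField s)) := by
  let K := p.asIdeal.ResidueField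
  let ψ : K →ₐ[R] T := Ideal.ResidueField.liftₐ p.asIdeal (Algebra.ofId R T) hkill hunit
  obtain ⟨l, hl⟩ := exists_factor_residueField (Spec.map (CommRingCat.ofHom (algebraMap R K)) ≫ β) s (fun x => by
    show β.base ((Spec.map (CommRingCat.ofHom (algebraMap R K))).base x) = s
    rw [← hp]
    refine congrArg β.base (PrimeSpectrum.ext (Ideal.ext fun r => ?_))
    have hx : x.asIdeal = ⊥ := (Ideal.eq_bot_or_top x.asIdeal).resolve_right x.isPrime.ne_top
    show algebraMap R K r ∈ x.asIdeal ↔ r ∈ p.asIdeal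
    rw [hx, Ideal.mem_bot, Ideal.algebraMap_residueField_eq_zero])
  refine ⟨Over.homMk (Spec.map (CommRingCat.ofHom ψ.toRingHom) ≫ l) ?_⟩
  show (Spec.map (CommRingCat.ofHom ψ.toRingHom) ≫ l) ≫ S.fromSpecResidueField s =
    Spec.map (CommRingCat.ofHom (algebraMap R T)) ≫ β
  rw [Category.assoc, hl, ← Category.assoc, ← Spec.map_comp, ← CommRingCat.ofHom_comp]
  congr 3
  exact ψ.comp_algebraMap

variable [GrpObj G] [GrpObj A] [GrpObj B] (iA : A ⟶ G) [IsMonHom iA] (iB : B ⟶ G) [IsMonHom iB]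

/-- The statement read on one etale neighbourhood where both groups split. -/
theorem exists_away_le' {R : Type u} [CommRing R] (β : Spec (CommRingCat.of R) ⟶ S) (s : S) (p : PrimeSpectrum R)
    (hp : β.base p = s) [IsImmersion iA.left] {M₁ M₂ : Type u} [CommGroup M₁] [CommGroup M₂]
    (eA : Grp.mk (sp R (MonoidAlgebra R M₂)) ≅ Grp.mk (Red.bc β A))
    (eB : Grp.mk (sp R (MonoidAlgebra R M₁)) ≅ Grp.mk (Red.bc β B))
    (hfin : IsNoetherianRing R ∨ LocallyOfFiniteType (Red.bc β G).hom) (hM₁ : Group.FG M₁)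
    (hc : ∀ (Y : Over S) (_ : Y ⟶ Over.mk (S.fromSpecResidueField s)) (g : Y ⟶ G) (b : Y ⟶ B),
      g * (b ≫ iB) = (b ≫ iB) * g)
    (hle : Le iA iB (S.fromSpecResidueField s)) :
    ∃ r ∉ p.asIdeal, ∀ (T : Type u) [CommRing T] [Algebra R T], IsUnit (algebraMap R T r) →
      ∀ b : (Over.map β).obj (sp R T) ⟶ B, ∃ a : (Over.map β).obj (sp R T) ⟶ A, a ≫ iA = b ≫ iB := by
  haveI : IsMonHom eA.hom.hom.hom := eA.hom.hom.isMonHom_hom
  haveI : IsMonHom eB.hom.hom.hom := eB.hom.hom.isMonHom_hom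
  haveI : Mono iA := Over.mono_of_mono_left _
  haveI : (Over.pullback β).PreservesMonomorphisms :=
    Functor.preservesMonomorphisms_of_adjunction (Over.mapPullbackAdj β)
  haveI : IsIso eA.hom.hom.hom :=
    ⟨eA.inv.hom.hom, congrArg (fun h => h.hom.hom) eA.hom_inv_id, congrArg (fun h => h.hom.hom) eA.inv_hom_id⟩
  let iA' : sp R (MonoidAlgebra R M₂) ⟶ Red.bc β G := eA.hom.hom.hom ≫ (Over.pullback β).map iA
  let iB' : sp R (MonoidAlgebra R M₁) ⟶ Red.bc β G := eB.hom.hom.hom ≫ (Over.pullback β).map iB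
  haveI : IsMonHom iA' := inferInstanceAs (IsMonHom (eA.hom.hom.hom ≫ (Over.pullback β).map iA))
  haveI : IsMonHom iB' := inferInstanceAs (IsMonHom (eB.hom.hom.hom ≫ (Over.pullback β).map iB))
  haveI : Mono iA' := mono_comp _ _
  have eA1 : eA.inv.hom.hom ≫ eA.hom.hom.hom = 𝟙 _ := congrArg (fun h => h.hom.hom) eA.inv_hom_id
  have eB1 : eB.inv.hom.hom ≫ eB.hom.hom.hom = 𝟙 _ := congrArg (fun h => h.hom.hom) eB.inv_hom_id
  obtain ⟨r, hr, H⟩ := exists_away_le iA' iB' hfin hM₁ p.asIdeal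
    (fun T _ _ hk hu q x => by
      obtain ⟨f⟩ := exists_over_residueField β s p hp hk hu
      apply (DSPtsLib.theta_bijective (H := G) β).1
      rw [DSPtsLib.theta_mul, DSPtsLib.theta_mul, ← Category.assoc, theta_map]
      exact hc _ f _ _)
    (fun T _ _ hk hu b => by
      obtain ⟨f⟩ := exists_over_residueField β s p hp hk hu
      obtain ⟨a, ha⟩ := hle _ f (DSPtsLib.theta β (b ≫ eB.hom.hom.hom))
      obtain ⟨a', rfl⟩ := (DSPtsLib.theta_bijective (H := A) β).2 a
      refine ⟨a' ≫ eA.inv.hom.hom, (DSPtsLib.theta_bijective (H := G) β).1 ?_⟩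
      rw [Category.assoc, reassoc_of% eA1, theta_map, ← Category.assoc, theta_map]
      exact ha)
  refine ⟨r, hr, fun T _ _ hT b => ?_⟩
  obtain ⟨b', rfl⟩ := (DSPtsLib.theta_bijective (H := B) β).2 b
  obtain ⟨a, ha⟩ := H T hT (b' ≫ eB.inv.hom.hom)
  refine ⟨DSPtsLib.theta β (a ≫ eA.hom.hom.hom), ?_⟩
  rw [← theta_map, ← theta_map, Category.assoc, ha, Category.assoc, reassoc_of% eB1]

/-- An inclusion of subgroups of multiplicative type, central in one fibre, holds over an open neighbourhood. -/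
theorem exists_nhd_le (hfin : IsLocallyNoetherian S ∨ LocallyOfFiniteType G.hom) (hA : SGA3x.IsMultTypeFT A)
    (hB : SGA3x.IsMultTypeFT B) [IsImmersion iA.left] (s : S)
    (hc : ∀ (Y : Over S) (_ : Y ⟶ Over.mk (S.fromSpecResidueField s)) (g : Y ⟶ G) (b : Y ⟶ B),
      g * (b ≫ iB) = (b ≫ iB) * g)
    (hle : Le iA iB (S.fromSpecResidueField s)) : ∃ U : S.Opens, s ∈ U ∧ Le iA iB U.ι := by
  obtain ⟨R, _, β, p, M₁, _, M₂, _, hβ, hp, hM₁, -, ⟨eB⟩, ⟨eA⟩⟩ := exists_etale_split₂ B A hB hA s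
  haveI := hβ
  have hfin' : IsNoetherianRing R ∨ LocallyOfFiniteType (Red.bc β G).hom := by
    rcases hfin with h | h
    · haveI : IsLocallyNoetherian (Spec (CommRingCat.of R)) := LocallyOfFiniteType.isLocallyNoetherian β
      exact Or.inl ((isLocallyNoetherian_Spec (R := CommRingCat.of R)).mp inferInstance)
    · exact Or.inr (inferInstanceAs (LocallyOfFiniteType (pullback.snd G.hom β)))
  obtain ⟨r, hr, H⟩ := exists_away_le' iA iB β s p hp eA eB hfin' hM₁ hc hle
  let Rr : Type u := Localization.Away r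
  let c : Spec (CommRingCat.of Rr) ⟶ Spec (CommRingCat.of R) := Spec.map (CommRingCat.ofHom (algebraMap R Rr))
  haveI : IsOpenImmersion c := IsOpenImmersion.of_isLocalization r
  let g : Spec (CommRingCat.of Rr) ⟶ S := c ≫ β
  let U : S.Opens := ⟨Set.range g.base, g.isOpenMap.isOpen_range⟩
  have hpc : p ∈ Set.range c.base := by
    show p ∈ Set.range (PrimeSpectrum.comap (algebraMap R Rr))
    rw [PrimeSpectrum.localization_away_comap_range Rr r]
    exact hr
  obtain ⟨q₀, hq₀⟩ := hpc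
  refine ⟨U, ⟨q₀, (congrArg β.base hq₀).trans hp⟩, ?_⟩
  let l : Spec (CommRingCat.of Rr) ⟶ U := IsOpenImmersion.lift U.ι g (by rw [Scheme.Opens.range_ι]; rfl)
  have hl : l ≫ U.ι = g := IsOpenImmersion.lift_fac _ _ _
  haveI : Etale (l ≫ U.ι) := hl ▸ inferInstanceAs (Etale (c ≫ β))
  haveI : Etale l := MorphismProperty.of_postcomp (W := @Etale) (W' := @Etale) l U.ι (inferInstanceAs (Etale U.ι)) inferInstance
  haveI : Surjective l := ⟨fun y => by
    obtain ⟨x, hx⟩ := y.2
    refine ⟨x, Subtype.ext ?_⟩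
    show U.ι.base (l.base x) = y.1
    rw [← hx, ← hl]
    rfl⟩
  refine Le.of_covers l (FpqcDescLib.covers_of_isCovering (FpqcDescLib.isCovering_of_lfp l)) ?_
  rw [hl]
  intro Y q b
  refine SubgroupEqLocus.exists_factor_of_stalks b fun z => ?_
  let T : Type u := Y.left.presheaf.stalk z
  obtain ⟨ψ, hψ⟩ : ∃ ψ : Rr →+* T, Spec.map (CommRingCat.ofHom ψ) = Y.left.fromSpecStalk z ≫ q.left :=
    ⟨(Spec.preimage (Y.left.fromSpecStalk z ≫ q.left)).hom, Spec.map_preimage _⟩
  letI : Algebra R T := (ψ.comp (algebraMap R Rr)).toAlgebra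
  have hw : Spec.map (CommRingCat.ofHom (algebraMap R T)) ≫ β = Y.left.fromSpecStalk z ≫ Y.hom := by
    rw [show CommRingCat.ofHom (algebraMap R T) = CommRingCat.ofHom (algebraMap R Rr) ≫ CommRingCat.ofHom ψ from rfl,
      Spec.map_comp, Category.assoc, hψ, Category.assoc]
    exact congrArg (_ ≫ ·) (Over.w q)
  let e : (Over.map β).obj (sp R T) ⟶ Y := Over.homMk (Y.left.fromSpecStalk z) hw.symm
  obtain ⟨a, ha⟩ := H T ((IsLocalization.Away.algebraMap_isUnit r).map ψ) (e ≫ b)
  exact ⟨a.left, (congrArg (fun m => m.left) ha).trans (congrArg (fun m => m.left) (Category.assoc e b iB))⟩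

end Groth.Agent.MultCentral18
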