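import Groth.Agent.MultCentral18.Coeff
import Mathlib.RingTheory.LocalRing.ResidueField.Ideal
import Mathlib.AlgebraicGeometry.Morphisms.FiniteType

/-!
# Two homomorphisms of a diagonalisable group equal and central in one fibre agree nearby
-/

universe u

open CategoryTheory CategoryTheory.Limits MonoidalCategory CartesianMonoidalCategory MonObj AlgebraicGeometry
open Groth.Agent.GrpSchLib.AffineHopf
open Groth.Agent.FreeAct18 (exists_spMap_eq spMap_inj)

set_option backward.isDefEq.respectTransparency false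
set_option linter.style.haveILetI false
set_option synthInstance.maxHeartbeats 400000
set_option maxHeartbeats 2000000

namespace Groth.Agent.MultCentral18

variable {R : Type u} [CommRing R] {G : Over (Spec (CommRingCat.of R))} [GrpObj G] {M : Type u} [CommGroup M]
  (u v : sp R (MonoidAlgebra R M) ⟶ G) [IsMonHom u] [IsMonHom v]

omit [GrpObj G] [IsMonHom u] [IsMonHom v] in
/-- Points over an algebra on which the homomorphisms agree. -/
theorem point_eq {T T' : Type u} [CommRing T] [Algebra R T] [CommRing T'] [Algebra R T'] [Algebra T T']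
    [IsScalarTower R T T'] (heq : spMap (baseT T) ≫ u = spMap (baseT T) ≫ v) (g : MonoidAlgebra R M →ₐ[R] T') :
    spMap g ≫ u = spMap g ≫ v := by
  have hg : g = ((MonoidAlgebra.lift T T' M (g.toMonoidHom.comp (MonoidAlgebra.of R M))).restrictScalars R).comp (baseT T) :=
    MonoidAlgebra.algHom_ext (fun m => by
      show _ = MonoidAlgebra.lift T T' M _ (baseT T (MonoidAlgebra.single m 1))
      rw [baseT_single]
      exact (MonoidAlgebra.lift_of (R := T) (g.toMonoidHom.comp (MonoidAlgebra.of R M)) m).symm) (by ext)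
  rw [hg, ← spMap_comp, Category.assoc, Category.assoc, heq]

omit [GrpObj G] [IsMonHom u] [IsMonHom v] in
/-- Points over the residue field. -/
theorem point_eq_fibre (p : Ideal R) [p.IsPrime]
    (heq : spMap (baseT p.ResidueField) ≫ u = spMap (baseT p.ResidueField) ≫ v) {T' : Type u} [CommRing T']
    [Algebra R T'] (hkill : ∀ r ∈ p, algebraMap R T' r = 0) (hunit : ∀ r ∉ p, IsUnit (algebraMap R T' r))
    (g : MonoidAlgebra R M →ₐ[R] T') : spMap g ≫ u = spMap g ≫ v := by
  let ψ : p.ResidueField →ₐ[R] T' := Ideal.ResidueField.liftₐ p (Algebra.ofId R T') hkill hunit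
  letI : Algebra p.ResidueField T' := ψ.toRingHom.toAlgebra
  haveI : IsScalarTower R p.ResidueField T' := IsScalarTower.of_algebraMap_eq fun x => (ψ.commutes x).symm
  exact point_eq u v heq g

section Local

variable {B : Type u} [CommRing B] [Algebra R B] (j : sp R B ⟶ G) [IsOpenImmersion j.left]
  {R' : Type u} [CommRing R'] [Algebra R R'] (h : MonoidAlgebra R' M)
  (φ : B →ₐ[R] Localization.Away h) (ε : B →ₐ[R] R') (α : B → MonoidAlgebra R' M) (N : B → ℕ)
  (hφ : (spMap ((IsScalarTower.toAlgHom R (MonoidAlgebra R' M) (Localization.Away h)).comp (baseT R'))) ≫ (u * v⁻¹) =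
    spMap φ ≫ j)
  (hε : (1 : sp R R' ⟶ G) = spMap ε ≫ j)
  (hα : ∀ b, (φ b - algebraMap (MonoidAlgebra R' M) (Localization.Away h) (algebraMap R' _ (ε b))) *
    algebraMap (MonoidAlgebra R' M) (Localization.Away h) (h ^ N b) = algebraMap _ _ (α b))

include hφ hε in
/-- The functions cutting out the equality locus. -/
theorem comp_eq_iff {T : Type u} [CommRing T] [Algebra R T] [Algebra R' T] [IsScalarTower R R' T]
    (θ : Localization.Away h →ₐ[R] Localization.Away (MonoidAlgebra.mapRingHom M (algebraMap R' T) h))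
    (hθ : ∀ z, θ (algebraMap _ _ z) = algebraMap _ _ (MonoidAlgebra.mapRingHom M (algebraMap R' T) z)) :
    (spMap ((IsScalarTower.toAlgHom R (MonoidAlgebra T M)
        (Localization.Away (MonoidAlgebra.mapRingHom M (algebraMap R' T) h))).comp (baseT T)) ≫ u =
      spMap ((IsScalarTower.toAlgHom R (MonoidAlgebra T M)
        (Localization.Away (MonoidAlgebra.mapRingHom M (algebraMap R' T) h))).comp (baseT T)) ≫ v) ↔
      ∀ b, θ (φ b) = θ (algebraMap (MonoidAlgebra R' M) (Localization.Away h) (algebraMap R' _ (ε b))) := by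
  let hT := MonoidAlgebra.mapRingHom M (algebraMap R' T) h
  let ιR : R' →ₐ[R] Localization.Away h :=
    (IsScalarTower.toAlgHom R (MonoidAlgebra R' M) (Localization.Away h)).comp (IsScalarTower.toAlgHom R R' _)
  have e0 : θ.comp ((IsScalarTower.toAlgHom R (MonoidAlgebra R' M) (Localization.Away h)).comp (baseT R')) =
      (IsScalarTower.toAlgHom R (MonoidAlgebra T M) (Localization.Away hT)).comp (baseT T) :=
    MonoidAlgebra.algHom_ext (fun m => by
      show θ (algebraMap _ _ (baseT R' (MonoidAlgebra.single m 1))) = algebraMap _ _ (baseT T (MonoidAlgebra.single m 1))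
      rw [baseT_single, baseT_single, hθ, MonoidAlgebra.mapRingHom_single, map_one]) (by ext)
  have e1 : spMap ((IsScalarTower.toAlgHom R (MonoidAlgebra T M) (Localization.Away hT)).comp (baseT T)) ≫ (u * v⁻¹) =
      spMap (θ.comp φ) ≫ j := by
    rw [← e0, ← spMap_comp, Category.assoc, hφ, ← Category.assoc, spMap_comp]
  have e2 : (1 : sp R (Localization.Away hT) ⟶ G) = spMap ((θ.comp ιR).comp ε) ≫ j := by
    rw [← spMap_comp, Category.assoc, ← hε, MonObj.comp_one]
  rw [← mul_inv_eq_one, ← GrpObj.comp_inv, ← MonObj.comp_mul, e1, e2]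
  exact ⟨fun H b => DFunLike.congr_fun (chart_inj j H) b, fun H => by
    rw [show θ.comp φ = (θ.comp ιR).comp ε from AlgHom.ext H]⟩

theorem exists_theta {T : Type u} [CommRing T] [Algebra R T] [Algebra R' T] [IsScalarTower R R' T] :
    ∃ θ : Localization.Away h →ₐ[R] Localization.Away (MonoidAlgebra.mapRingHom M (algebraMap R' T) h),
      ∀ z, θ (algebraMap _ _ z) = algebraMap _ _ (MonoidAlgebra.mapRingHom M (algebraMap R' T) z) := by
  let f := MonoidAlgebra.mapRingHom M (algebraMap R' T)
  have hu : IsUnit (((algebraMap _ (Localization.Away (f h))).comp f) h) := IsLocalization.Away.algebraMap_isUnit (f h)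
  refine ⟨{ IsLocalization.Away.lift h hu with commutes' := fun r => ?_ }, fun z => IsLocalization.Away.lift_eq h hu z⟩
  show IsLocalization.Away.lift h hu (algebraMap R (Localization.Away h) r) = _
  rw [IsScalarTower.algebraMap_apply R (MonoidAlgebra R' M) (Localization.Away h), IsLocalization.Away.lift_eq,
    IsScalarTower.algebraMap_apply R (MonoidAlgebra T M) (Localization.Away (f h)), RingHom.comp_apply]
  congr 1
  rw [IsScalarTower.algebraMap_apply R R' (MonoidAlgebra R' M), IsScalarTower.algebraMap_apply R T (MonoidAlgebra T M),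
    IsScalarTower.algebraMap_apply R R' T]
  exact MonoidAlgebra.mapRingHom_single _ _ _

include hφ hε hα in
/-- Vanishing functions give equality. -/
theorem agree {L : Type} [CommGroup L] [UniqueProds L] (π : M →* L) (hk : IsUnit (kerPart π h)) {𝔅 : Set B}
    (h𝔅 : Algebra.adjoin R 𝔅 = ⊤) {T : Type u} [CommRing T] [Algebra R T] [Algebra R' T] [IsScalarTower R R' T]
    (hz : ∀ b ∈ 𝔅, ∀ m, algebraMap R' T ((α b).coeff m) = 0) :
    spMap (baseT T) ≫ u = spMap (baseT T) ≫ v := by
  obtain ⟨θ, hθ⟩ := exists_theta (R := R) h (T := T)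
  refine eq_of_away u v π (MonoidAlgebra.mapRingHom M (algebraMap R' T) h)
    (by rw [map_kerPart]; exact hk.map _) ((comp_eq_iff u v j h φ ε hφ hε θ hθ).mpr ?_)
  let ιR : R' →ₐ[R] Localization.Away h :=
    (IsScalarTower.toAlgHom R (MonoidAlgebra R' M) (Localization.Away h)).comp (IsScalarTower.toAlgHom R R' _)
  have heq : θ.comp φ = θ.comp (ιR.comp ε) := AlgHom.ext_of_adjoin_eq_top h𝔅 fun b hb => by
    show θ (φ b) = θ (algebraMap (MonoidAlgebra R' M) (Localization.Away h) (algebraMap R' _ (ε b)))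
    have h1 := congrArg θ (hα b)
    have h0 : MonoidAlgebra.mapRingHom M (algebraMap R' T) (α b) = 0 :=
      MonoidAlgebra.ext (Finsupp.ext fun m => hz b hb m)
    rw [map_mul, hθ, hθ, h0, map_zero, map_sub, map_pow, map_pow] at h1
    exact sub_eq_zero.mp (((IsLocalization.Away.algebraMap_isUnit (MonoidAlgebra.mapRingHom M (algebraMap R' T) h)).pow
      (N b)).mul_left_eq_zero.mp h1)
  exact fun b => DFunLike.congr_fun heq b

include hφ hε hα in
/-- Equality gives vanishing functions. -/
theorem vanish {T : Type u} [CommRing T] [IsLocalRing T] [Algebra R T] [Algebra R' T] [IsScalarTower R R' T] {s : R'}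
    (hs : IsUnit (algebraMap R' T s)) (p' : Ideal R') (hp : p' ≤ (IsLocalRing.maximalIdeal T).comap (algebraMap R' T))
    (hh : h - algebraMap R' _ s ∈ p'.map (algebraMap R' (MonoidAlgebra R' M)))
    (he : spMap (baseT T) ≫ u = spMap (baseT T) ≫ v) (b : B) (m : M) : algebraMap R' T ((α b).coeff m) = 0 := by
  obtain ⟨θ, hθ⟩ := exists_theta (R := R) h (T := T)
  let hT := MonoidAlgebra.mapRingHom M (algebraMap R' T) h
  have he' : spMap ((IsScalarTower.toAlgHom R (MonoidAlgebra T M) (Localization.Away hT)).comp (baseT T)) ≫ u =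
      spMap ((IsScalarTower.toAlgHom R (MonoidAlgebra T M) (Localization.Away hT)).comp (baseT T)) ≫ v := by
    rw [← spMap_comp, Category.assoc, Category.assoc, he]
  have hb := (comp_eq_iff u v j h φ ε hφ hε θ hθ).mp he' b
  have h1 := congrArg θ (hα b)
  rw [map_mul, hθ, map_sub, hb, sub_self, zero_mul, hθ] at h1
  obtain ⟨⟨_, k, rfl⟩, hk⟩ := (IsLocalization.map_eq_zero_iff (Submonoid.powers hT) _ _).mp h1.symm
  have hnzd : ∀ x, x * hT = 0 → x = 0 := fun x hx => by
    refine eq_zero_of_mul_eq_zero hs ?_ hx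
    rw [mem_map_iff]
    intro n
    have h2 := hp ((mem_map_iff p' _).mp hh n)
    rw [Ideal.mem_comap, MonoidAlgebra.coeff_sub, Finsupp.sub_apply, map_sub,
      show algebraMap R' (MonoidAlgebra R' M) s = MonoidAlgebra.single 1 s from rfl, MonoidAlgebra.coeff_single] at h2
    rw [MonoidAlgebra.coeff_sub, Finsupp.sub_apply,
      show algebraMap T (MonoidAlgebra T M) (algebraMap R' T s) = MonoidAlgebra.single 1 (algebraMap R' T s) from rfl,
      MonoidAlgebra.coeff_single]
    classical
    rw [Finsupp.single_apply] at h2 ⊢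
    rw [apply_ite (algebraMap R' T), map_zero] at h2
    exact h2
  have h3 : ∀ k : ℕ, hT ^ k * MonoidAlgebra.mapRingHom M (algebraMap R' T) (α b) = 0 →
      MonoidAlgebra.mapRingHom M (algebraMap R' T) (α b) = 0 := by
    intro k
    induction k with
    | zero => exact fun h => by rwa [pow_zero, _root_.one_mul] at h
    | succ k ih => exact fun h => ih (hnzd _ (by rwa [mul_comm _ hT, ← _root_.mul_assoc, ← pow_succ']))
  exact congrArg (fun z => z.coeff m) (h3 k hk)

include hφ hε hα in
/-- Rigidity over a small thickening. -/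
theorem thicken {L : Type} [CommGroup L] [UniqueProds L] (π : M →* L) (hk : IsUnit (kerPart π h)) {𝔅 : Set B}
    (h𝔅 : Algebra.adjoin R 𝔅 = ⊤) {T : Type u} [CommRing T] [IsLocalRing T] [Algebra R T] [Algebra R' T]
    [IsScalarTower R R' T] (I : Ideal T) (hmI : ∀ m ∈ IsLocalRing.maximalIdeal T, ∀ i ∈ I, m * i = 0)
    (hIm : I ≤ IsLocalRing.maximalIdeal T) (hone : ∀ s, (1 : sp R R' ⟶ G).left s ∈ Set.range j.left)
    (hc : ∀ (T' : Type u) [CommRing T'] [Algebra R T'] [Algebra T T'] [IsScalarTower R T T'],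
      (∀ m ∈ IsLocalRing.maximalIdeal T, algebraMap T T' m = 0) →
        ∀ (q : sp R T' ⟶ G) (x : sp R T' ⟶ sp R (MonoidAlgebra R M)), q * (x ≫ u) = (x ≫ u) * q)
    (hz : ∀ b ∈ 𝔅, ∀ m, algebraMap R' T ((α b).coeff m) ∈ I) :
    spMap (baseT T) ≫ u = spMap (baseT T) ≫ v := by
  refine eq_of_near u v j I hmI hIm (one_range j hone T) hc ?_
  have h0 : spMap (baseT (T ⧸ I)) ≫ u = spMap (baseT (T ⧸ I)) ≫ v :=
    agree u v j h φ ε α N hφ hε hα π hk h𝔅 fun b hb m => by
      rw [IsScalarTower.algebraMap_apply R' T (T ⧸ I), Ideal.Quotient.algebraMap_eq, Ideal.Quotient.eq_zero_iff_mem]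
      exact hz b hb m
  letI : Algebra (T ⧸ I) (MonoidAlgebra T M ⧸ I.map (algebraMap T (MonoidAlgebra T M))) :=
    (Ideal.quotientMap (I.map (algebraMap T (MonoidAlgebra T M))) (algebraMap T (MonoidAlgebra T M))
      Ideal.le_comap_map).toAlgebra
  haveI : IsScalarTower R (T ⧸ I) (MonoidAlgebra T M ⧸ I.map (algebraMap T (MonoidAlgebra T M))) :=
    IsScalarTower.of_algebraMap_eq fun r => rfl
  exact point_eq u v h0 _

end Local

/-- A finitely generated ideal contained in the square-zero thickenings' kernel is killed near the prime. -/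
theorem exists_notMem_mul_eq_zero {A : Type u} [CommRing A] (c : Ideal A) (hc : c.FG) (p : Ideal A) [p.IsPrime]
    (hcp : c ≤ p)
    (H : ∀ (T : Type u) [CommRing T] [IsLocalRing T] [Algebra A T],
      (∀ r, algebraMap A T r ∈ IsLocalRing.maximalIdeal T ↔ r ∈ p) →
      ∀ I : Ideal T, (∀ m ∈ IsLocalRing.maximalIdeal T, ∀ i ∈ I, m * i = 0) → I ≤ IsLocalRing.maximalIdeal T →
        (∀ x ∈ c, algebraMap A T x ∈ I) → c ≤ RingHom.ker (algebraMap A T)) :
    ∃ t ∉ p, ∀ x ∈ c, t * x = 0 := by
  classical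
  let O := Localization.AtPrime p
  let cO := c.map (algebraMap A O)
  have hcO : cO ≤ IsLocalRing.maximalIdeal O := by
    rw [← Localization.AtPrime.map_eq_maximalIdeal]
    exact Ideal.map_mono hcp
  let K : Ideal O := IsLocalRing.maximalIdeal O * cO
  haveI : Nontrivial (O ⧸ K) := Ideal.Quotient.nontrivial_iff.mpr
    (ne_top_of_le_ne_top (IsLocalRing.maximalIdeal.isMaximal O).ne_top Ideal.mul_le_left)
  haveI : IsLocalRing (O ⧸ K) := IsLocalRing.of_surjective' (Ideal.Quotient.mk K) Ideal.Quotient.mk_surjective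
  haveI : IsLocalHom (Ideal.Quotient.mk K) := .of_surjective _ Ideal.Quotient.mk_surjective
  have hmax : ∀ x, Ideal.Quotient.mk K x ∈ IsLocalRing.maximalIdeal (O ⧸ K) ↔ x ∈ IsLocalRing.maximalIdeal O :=
    fun x => by
      rw [IsLocalRing.mem_maximalIdeal, IsLocalRing.mem_maximalIdeal, mem_nonunits_iff, mem_nonunits_iff,
        isUnit_map_iff (Ideal.Quotient.mk K)]
  have h0 := H (O ⧸ K) (fun r => by
    rw [IsScalarTower.algebraMap_apply A O (O ⧸ K), Ideal.Quotient.algebraMap_eq, hmax,
      IsLocalization.AtPrime.to_map_mem_maximal_iff O p])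
    (cO.map (Ideal.Quotient.mk K)) (fun m hm i hi => by
      obtain ⟨m', rfl⟩ := Ideal.Quotient.mk_surjective m
      obtain ⟨i', hi', rfl⟩ := (Ideal.mem_map_iff_of_surjective _ Ideal.Quotient.mk_surjective).mp hi
      rw [← map_mul]
      exact Ideal.Quotient.eq_zero_iff_mem.mpr (Ideal.mul_mem_mul ((hmax m').mp hm) hi'))
    (Ideal.map_le_iff_le_comap.mpr fun x hx => (hmax x).mpr (hcO hx))
    (fun x hx => by
      rw [IsScalarTower.algebraMap_apply A O (O ⧸ K), Ideal.Quotient.algebraMap_eq]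
      exact Ideal.mem_map_of_mem _ (Ideal.mem_map_of_mem _ hx))
  have hcO0 : cO = ⊥ := by
    refine Submodule.eq_bot_of_le_smul_of_le_jacobson_bot (IsLocalRing.maximalIdeal O) cO (Ideal.FG.map hc _) ?_
      (IsLocalRing.maximalIdeal_le_jacobson ⊥)
    refine Ideal.map_le_iff_le_comap.mpr fun x hx => ?_
    have := h0 hx
    rw [RingHom.mem_ker, IsScalarTower.algebraMap_apply A O (O ⧸ K), Ideal.Quotient.algebraMap_eq,
      Ideal.Quotient.eq_zero_iff_mem] at this
    exact this
  obtain ⟨S, hS⟩ := hc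
  have hex : ∀ x ∈ S, ∃ t ∉ p, t * x = 0 := fun x hx => by
    have hx' : algebraMap A O x ∈ cO := Ideal.mem_map_of_mem _ (hS ▸ Ideal.subset_span hx)
    rw [hcO0, Ideal.mem_bot] at hx'
    obtain ⟨⟨t, ht⟩, htx⟩ := (IsLocalization.map_eq_zero_iff p.primeCompl O x).mp hx'
    exact ⟨t, ht, htx⟩
  choose! t ht htx using hex
  refine ⟨∏ x ∈ S, t x, fun hm => ?_, fun x hx => ?_⟩
  · obtain ⟨x, hx, hxm⟩ := (Ideal.IsPrime.prod_mem_iff (p := p)).mp hm
    exact ht x hx hxm
  · have hx' : x ∈ Ideal.span (S : Set A) := by rw [show Ideal.span (S : Set A) = c from hS]; exact hx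
    clear hx
    induction hx' using Submodule.span_induction with
    | mem y hy =>
      obtain ⟨d, hd⟩ := Finset.dvd_prod_of_mem t (Finset.mem_coe.mp hy)
      rw [hd, mul_right_comm, htx y hy, zero_mul]
    | zero => rw [mul_zero]
    | add a b _ _ h1 h2 => rw [mul_add, h1, h2, add_zero]
    | smul a y _ h1 => rw [smul_eq_mul, mul_left_comm, h1, mul_zero]

/-- Two homomorphisms of a diagonalisable group of finite type into a group, equal and central in one fibre, agree
over a neighbourhood. -/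
theorem exists_nhd (hfin : IsNoetherianRing R ∨ LocallyOfFiniteType G.hom) (hM : Group.FG M) (p : Ideal R) [p.IsPrime]
    (hc : ∀ (T' : Type u) [CommRing T'] [Algebra R T'], (∀ r ∈ p, algebraMap R T' r = 0) →
      (∀ r ∉ p, IsUnit (algebraMap R T' r)) → ∀ (q : sp R T' ⟶ G) (x : sp R T' ⟶ sp R (MonoidAlgebra R M)),
        q * (x ≫ u) = (x ≫ u) * q)
    (heq : spMap (baseT p.ResidueField) ≫ u = spMap (baseT p.ResidueField) ≫ v) :
    ∃ r ∉ p, spMap (baseT (Localization.Away r)) ≫ u = spMap (baseT (Localization.Away r)) ≫ v := by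
  obtain ⟨L, _, _, π, hπ⟩ := exists_grading M hM
  haveI := hπ
  let A := MonoidAlgebra R M
  -- a chart around the unit at `p`
  let one₀ : sp R R ⟶ G := 1
  let P₀ : PrimeSpectrum R := ⟨p, inferInstance⟩
  obtain ⟨W, hW, hpW, -⟩ := exists_isAffineOpen_mem_and_subset (x := one₀.left P₀) (U := ⊤) trivial
  obtain ⟨B, _, _, j, hj, hjW⟩ := exists_chart hW
  haveI := hj
  obtain ⟨r₂, hr₂p, hr₂⟩ : ∃ r₂ ∉ p, ∀ q : PrimeSpectrum R, r₂ ∉ q.asIdeal → one₀.left q ∈ W := by
    obtain ⟨_, ⟨_, ⟨r, rfl⟩, rfl⟩, h1, h2⟩ := PrimeSpectrum.isBasis_basic_opens.exists_subset_of_mem_open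
      (u := one₀.left ⁻¹' W) hpW (W.2.preimage one₀.left.continuous)
    exact ⟨r, h1, fun q hq => h2 hq⟩
  -- an element of the group algebra inside the good open
  let w : sp R A ⟶ G := u * v⁻¹
  let J : Ideal A := PrimeSpectrum.vanishingIdeal (w.left ⁻¹' (Set.range j.left)ᶜ)
  have hgood : ∀ Q : PrimeSpectrum A, Q.asIdeal.comap (algebraMap R A) = p → w.left Q ∈ Set.range j.left := by
    intro Q hQ
    let K := Q.asIdeal.ResidueField
    let g : A →ₐ[R] K := IsScalarTower.toAlgHom R A K
    have hker : ∀ r, algebraMap R K r = 0 ↔ r ∈ p := fun r => by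
      rw [IsScalarTower.algebraMap_apply R A K, Ideal.algebraMap_residueField_eq_zero, ← hQ, Ideal.mem_comap]
    have hx := point_eq_fibre u v p heq (fun r hr => (hker r).mpr hr)
      (fun r hr => isUnit_iff_ne_zero.mpr fun h0 => hr ((hker r).mp h0)) g
    have hw : spMap g ≫ w = spMap (Algebra.ofId R K) ≫ one₀ := by
      rw [MonObj.comp_mul, GrpObj.comp_inv, hx, mul_inv_cancel, MonObj.comp_one]
    have hc0 := congrArg (fun f : sp R K ⟶ G => f.left ⟨⊥, Ideal.isPrime_bot⟩) hw
    simp only [Over.comp_left, Scheme.Hom.comp_apply] at hc0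
    have hQ' : (spMap g).left ⟨⊥, Ideal.isPrime_bot⟩ = Q := by
      refine PrimeSpectrum.ext ?_
      show Ideal.comap g.toRingHom ⊥ = Q.asIdeal
      exact (RingHom.ker_eq_comap_bot _).symm.trans (Ideal.ker_algebraMap_residueField _)
    have hP' : (spMap (Algebra.ofId R K)).left ⟨⊥, Ideal.isPrime_bot⟩ = P₀ := by
      refine PrimeSpectrum.ext (Ideal.ext fun r => ?_)
      show algebraMap R K r ∈ (⊥ : Ideal K) ↔ r ∈ p
      rw [Ideal.mem_bot, hker]
    rw [hQ', hP'] at hc0
    rw [hc0, hjW]
    exact hpW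
  have hJ : ¬ Disjoint ((J ⊔ p.map (algebraMap R A) : Ideal A) : Set A)
      (Algebra.algebraMapSubmonoid A p.primeCompl : Set A) := by
    intro hd
    obtain ⟨Q, hQ, hle, hQd⟩ := Ideal.exists_le_prime_disjoint _ _ hd
    have hQp : Q.comap (algebraMap R A) = p := by
      refine le_antisymm (fun r hr => ?_) (Ideal.map_le_iff_le_comap.mp (le_sup_right.trans hle))
      by_contra hrp
      exact Set.disjoint_left.mp hQd hr ⟨r, hrp, rfl⟩
    have hcl : (⟨Q, hQ⟩ : PrimeSpectrum A) ∈ PrimeSpectrum.zeroLocus (J : Set A) := le_sup_left.trans hle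
    rw [PrimeSpectrum.zeroLocus_vanishingIdeal_eq_closure, IsClosed.closure_eq
      (j.left.isOpenEmbedding.isOpen_range.isClosed_compl.preimage w.left.continuous)] at hcl
    exact hcl (hgood ⟨Q, hQ⟩ hQp)
  obtain ⟨_, hx, s, hsp, rfl⟩ := Set.not_disjoint_iff.mp hJ
  obtain ⟨h₀, hh₀, q₀, hq₀, hsum⟩ := Submodule.mem_sup.mp hx
  have hh : h₀ - algebraMap R A s ∈ p.map (algebraMap R A) := by
    rw [← hsum, sub_add_cancel_left]
    exact neg_mem hq₀
  obtain ⟨r₁, hr₁p, hr₁⟩ := exists_kerPart_dvd π h₀ p hsp hh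
  -- work over the localisation
  let R' := Localization.Away (r₁ * r₂)
  have hr12 : r₁ * r₂ ∉ p := fun h => (‹p.IsPrime›.mem_or_mem h).elim hr₁p hr₂p
  let f := MonoidAlgebra.mapRingHom M (algebraMap R R')
  let h : MonoidAlgebra R' M := f h₀
  let p' : Ideal R' := p.map (algebraMap R R')
  have hdis : Disjoint (Submonoid.powers (r₁ * r₂) : Set R) p := (Ideal.disjoint_powers_iff_notMem_of_isPrime _).2 hr12
  haveI : p'.IsPrime := IsLocalization.isPrime_of_isPrime_disjoint (Submonoid.powers (r₁ * r₂)) _ _ ‹_› hdis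
  have hp' : p'.comap (algebraMap R R') = p :=
    IsLocalization.under_map_of_isPrime_disjoint (Submonoid.powers (r₁ * r₂)) R' ‹p.IsPrime› hdis
  have hu12 : IsUnit (algebraMap R R' (r₁ * r₂)) := IsLocalization.Away.algebraMap_isUnit _
  rw [map_mul] at hu12
  have hk : IsUnit (kerPart π h) := by
    obtain ⟨g, hg⟩ := hr₁
    refine isUnit_of_mul_isUnit_left (y := f g) ?_
    rw [map_kerPart, ← map_mul, ← hg, show algebraMap R A r₁ = MonoidAlgebra.single 1 r₁ from rfl,
      MonoidAlgebra.mapRingHom_single]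
    exact (isUnit_of_mul_isUnit_left hu12).map (algebraMap R' (MonoidAlgebra R' M))
  have hhs : h - algebraMap R' _ (algebraMap R R' s) ∈ p'.map (algebraMap R' (MonoidAlgebra R' M)) := by
    rw [mem_map_iff]
    intro m
    have h2 := Ideal.mem_map_of_mem (algebraMap R R') ((mem_map_iff p _).mp hh m)
    have e : h - algebraMap R' _ (algebraMap R R' s) = f (h₀ - algebraMap R A s) := by
      rw [map_sub, show algebraMap R A s = MonoidAlgebra.single 1 s from rfl, MonoidAlgebra.mapRingHom_single]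
      rfl
    rw [e]
    exact h2
  -- the two functions
  let lh := (IsScalarTower.toAlgHom R (MonoidAlgebra R' M) (Localization.Away h)).comp (baseT R')
  have hlh : ∀ a, lh a = algebraMap (MonoidAlgebra R' M) (Localization.Away h) (f a) := fun a => by
    show algebraMap _ _ (baseT R' a) = _
    congr 1
    induction a using MonoidAlgebra.induction_linear with
    | zero => rw [map_zero, map_zero]
    | add x y hx hy => rw [map_add, map_add, hx, hy]
    | single m r =>
      rw [MonoidAlgebra.mapRingHom_single, show MonoidAlgebra.single m r = r • MonoidAlgebra.single m (1 : R) by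
        rw [MonoidAlgebra.smul_single, smul_eq_mul, _root_.mul_one], map_smul, baseT_single, MonoidAlgebra.smul_single,
        Algebra.smul_def, _root_.mul_one]
  obtain ⟨φ, hφ⟩ := exists_factor j (spMap lh ≫ w) fun Q => by
    rw [Over.comp_left, Scheme.Hom.comp_apply]
    by_contra hout
    have hh0 : h₀ ∈ ((spMap lh).left Q).asIdeal := (PrimeSpectrum.mem_vanishingIdeal _ _).mp hh₀ _ hout
    change lh h₀ ∈ Q.asIdeal at hh0
    rw [hlh] at hh0
    exact Q.isPrime.ne_top (Ideal.eq_top_of_isUnit_mem _ hh0 (IsLocalization.Away.algebraMap_isUnit h))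
  have hone : ∀ Q : (sp R R').left, (1 : sp R R' ⟶ G).left Q ∈ Set.range j.left := fun Q => by
    rw [← MonObj.comp_one (spMap (Algebra.ofId R R')), Over.comp_left, Scheme.Hom.comp_apply, hjW]
    refine hr₂ _ fun hmem => ?_
    exact Q.isPrime.ne_top (Ideal.eq_top_of_isUnit_mem _ (show algebraMap R R' r₂ ∈ Q.asIdeal from hmem)
      (isUnit_of_mul_isUnit_right hu12))
  obtain ⟨ε, hε⟩ := exists_factor j (1 : sp R R' ⟶ G) hone
  have hfrac : ∀ b, ∃ (a : MonoidAlgebra R' M) (n : ℕ),
      (φ b - algebraMap (MonoidAlgebra R' M) (Localization.Away h) (algebraMap R' _ (ε b))) *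
        algebraMap (MonoidAlgebra R' M) (Localization.Away h) (h ^ n) = algebraMap _ _ a := fun b => by
    obtain ⟨⟨a, _, n, rfl⟩, ha⟩ := IsLocalization.surj (Submonoid.powers h)
      (φ b - algebraMap (MonoidAlgebra R' M) (Localization.Away h) (algebraMap R' _ (ε b)))
    exact ⟨a, n, ha⟩
  choose α N hα using hfrac
  -- the ideal of coefficients
  classical
  obtain ⟨𝔅, h𝔅, hcfg⟩ : ∃ 𝔅 : Set B, Algebra.adjoin R 𝔅 = ⊤ ∧
      (Ideal.span (⋃ b ∈ 𝔅, Set.range (α b).coeff)).FG := by
    rcases hfin with hR | hG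
    · haveI := hR
      haveI : IsNoetherianRing R' := IsLocalization.isNoetherianRing (Submonoid.powers (r₁ * r₂)) R' hR
      exact ⟨Set.univ, Algebra.adjoin_univ R B, IsNoetherian.noetherian _⟩
    · haveI : Algebra.FiniteType R B := by
        have h1 : LocallyOfFiniteType (j.left ≫ G.hom) := inferInstance
        rw [Over.w j] at h1
        exact RingHom.finiteType_algebraMap.mp ((HasRingHomProperty.Spec_iff (P := @LocallyOfFiniteType)).mp h1)
      obtain ⟨S, hS⟩ := (Algebra.FiniteType.out (R := R) (A := B) : (⊤ : Subalgebra R B).FG)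
      refine ⟨S, hS, Submodule.fg_span ((Finset.finite_toSet S).biUnion fun b _ => ?_)⟩
      exact ((Finset.finite_toSet ((α b).coeff.support.image (α b).coeff)).union (Set.finite_singleton 0)).subset <| by
        rintro _ ⟨m, rfl⟩
        by_cases hm : m ∈ (α b).coeff.support
        · exact Or.inl (Finset.mem_coe.mpr (Finset.mem_image_of_mem _ hm))
        · exact Or.inr (Finsupp.notMem_support_iff.mp hm)
  let c : Ideal R' := Ideal.span (⋃ b ∈ 𝔅, Set.range (α b).coeff)
  have hzero : ∀ {T : Type u} [CommRing T] (g : R' →+* T), (∀ x ∈ c, g x = 0) → ∀ b ∈ 𝔅, ∀ m, g ((α b).coeff m) = 0 :=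
    fun g hg b hb m => hg _ (Ideal.subset_span (Set.mem_biUnion hb ⟨m, rfl⟩))
  -- the coefficients vanish at `p`
  have hcp : c ≤ p' := by
    let k := p'.ResidueField
    have hk0 : ∀ r, algebraMap R k r = 0 ↔ r ∈ p := fun r => by
      rw [IsScalarTower.algebraMap_apply R R' k, Ideal.algebraMap_residueField_eq_zero, ← hp', Ideal.mem_comap]
    have he : spMap (baseT k) ≫ u = spMap (baseT k) ≫ v := point_eq_fibre u v p heq (fun r hr => by rw [IsScalarTower.algebraMap_apply R k (MonoidAlgebra k M), (hk0 r).mpr hr, map_zero])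
      (fun r hr => IsScalarTower.algebraMap_apply R k (MonoidAlgebra k M) r ▸ ((isUnit_iff_ne_zero.mpr fun h0 => hr ((hk0 r).mp h0)).map
        (algebraMap k (MonoidAlgebra k M)))) (baseT k)
    refine Ideal.span_le.mpr (Set.iUnion₂_subset fun b hb => ?_)
    rintro _ ⟨m, rfl⟩
    have := vanish u v j h φ ε α N hφ.symm.symm hε hα (T := k) (s := algebraMap R R' s)
      (isUnit_iff_ne_zero.mpr (by rw [← IsScalarTower.algebraMap_apply]; exact fun h0 => hsp ((hk0 s).mp h0)))
      p' (fun r hr => by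
        rw [Ideal.mem_comap, Ideal.algebraMap_residueField_eq_zero.mpr hr]
        exact zero_mem _) hhs he b m
    exact Ideal.algebraMap_residueField_eq_zero.mp this
  -- hence the coefficients are killed near `p`
  obtain ⟨t₀, hprod, hkill₀⟩ := exists_notMem_mul_eq_zero c hcfg p' hcp fun T _ _ _ hmem I hmI hIm hcI => by
    letI : Algebra R T := ((algebraMap R' T).comp (algebraMap R R')).toAlgebra
    haveI : IsScalarTower R R' T := IsScalarTower.of_algebraMap_eq fun _ => rfl
    have hRp : ∀ r, algebraMap R T r ∈ IsLocalRing.maximalIdeal T ↔ r ∈ p := fun r => by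
      rw [IsScalarTower.algebraMap_apply R R' T, hmem, ← Ideal.mem_comap, hp']
    have hRT : ∀ r, r ∉ p → IsUnit (algebraMap R T r) := fun r hr => by
      by_contra hnu
      exact hr ((hRp r).mp ((IsLocalRing.mem_maximalIdeal _).mpr hnu))
    have hT := thicken u v j h φ ε α N hφ hε hα π hk h𝔅 I hmI hIm hone
      (fun T' _ _ _ _ hkill q x => hc T'
        (fun r hr => by rw [IsScalarTower.algebraMap_apply R T T']; exact hkill _ ((hRp r).mpr hr))
        (fun r hr => by rw [IsScalarTower.algebraMap_apply R T T']; exact (hRT r hr).map _) q x)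
      (fun b hb m => hcI _ (Ideal.subset_span (Set.mem_biUnion hb ⟨m, rfl⟩)))
    refine Ideal.span_le.mpr (Set.iUnion₂_subset fun b hb => ?_)
    rintro _ ⟨m, rfl⟩
    exact vanish u v j h φ ε α N hφ hε hα (T := T) (s := algebraMap R R' s)
      (by rw [← IsScalarTower.algebraMap_apply]; exact hRT s hsp) p' (fun r hr => (hmem r).mpr hr) hhs hT b m
  obtain ⟨⟨r₃, den⟩, hr₃⟩ := IsLocalization.surj (Submonoid.powers (r₁ * r₂)) t₀
  have hr₃p : r₃ ∉ p := fun hm => hprod (by
    have h1 : algebraMap R R' r₃ ∈ p' := Ideal.mem_map_of_mem _ hm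
    rw [← hr₃] at h1
    exact (‹p'.IsPrime›.mem_or_mem h1).resolve_right fun h2 =>
      ‹p'.IsPrime›.ne_top (Ideal.eq_top_of_isUnit_mem _ h2 (IsLocalization.map_units R' den)))
  refine ⟨r₁ * r₂ * r₃, fun h => (‹p.IsPrime›.mem_or_mem h).elim hr12 hr₃p, ?_⟩
  let R'' := Localization.Away (r₁ * r₂ * r₃)
  have hu3 : IsUnit (algebraMap R R'' (r₁ * r₂ * r₃)) := IsLocalization.Away.algebraMap_isUnit _
  rw [map_mul] at hu3
  letI : Algebra R' R'' :=
    (IsLocalization.Away.lift (g := algebraMap R R'') (r₁ * r₂) (isUnit_of_mul_isUnit_left hu3)).toAlgebra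
  haveI : IsScalarTower R R' R'' := IsScalarTower.of_algebraMap_eq fun r =>
    (IsLocalization.Away.lift_eq (g := algebraMap R R'') (r₁ * r₂) (isUnit_of_mul_isUnit_left hu3) r).symm
  refine agree u v j h φ ε α N hφ hε hα π hk h𝔅 (hzero _ fun x hx => ?_)
  have hut : IsUnit (algebraMap R' R'' t₀) := by
    refine isUnit_of_mul_isUnit_left (y := algebraMap R' R'' (algebraMap R R' den)) ?_
    rw [← map_mul, hr₃, ← IsScalarTower.algebraMap_apply]
    exact isUnit_of_mul_isUnit_right hu3
  refine hut.mul_right_eq_zero.mp ?_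
  rw [← map_mul, hkill₀ x hx, map_zero]

end Groth.Agent.MultCentral18
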