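import Groth.Agent.FreeAct18.Split
import Mathlib.RingTheory.LocalRing.MaximalIdeal.Basic

/-!
# Rigidity of central homomorphisms out of diagonalisable groups

Over a local ring, two homomorphisms out of a diagonalisable group into an arbitrary group which agree modulo an
ideal killed by the maximal ideal agree, if the first is central in the closed fibre: the quotient is an
infinitesimal homomorphism, additive in the point, hence zero.
-/

universe u

open CategoryTheory CategoryTheory.Limits MonoidalCategory CartesianMonoidalCategory MonObj AlgebraicGeometry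
open Groth.Agent.GrpSchLib.AffineHopf
open Groth.Agent.FreeAct18 (exists_spMap_eq spMap_inj one_single mul_single)

set_option backward.isDefEq.respectTransparency false
set_option linter.style.haveILetI false
set_option synthInstance.maxHeartbeats 400000
set_option maxHeartbeats 1000000

namespace Groth.Agent.MultCentral18

variable {R : Type u} [CommRing R] {G : Over (Spec (CommRingCat.of R))}

/-- An affine open of a scheme over an affine base as a spectrum. -/
theorem exists_chart {W : G.left.Opens} (hW : IsAffineOpen W) :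
    ∃ (B : Type u) (_ : CommRing B) (_ : Algebra R B) (j : sp R B ⟶ G),
      IsOpenImmersion j.left ∧ Set.range j.left = W := by
  let φ : CommRingCat.of R ⟶ Γ(G.left, W) := Spec.preimage (hW.fromSpec ≫ G.hom)
  letI : Algebra R Γ(G.left, W) := φ.hom.toAlgebra
  have hφ : hW.fromSpec ≫ G.hom = Spec.map (CommRingCat.ofHom (algebraMap R Γ(G.left, W))) :=
    (Spec.map_preimage _).symm
  exact ⟨Γ(G.left, W), inferInstance, inferInstance, Over.homMk hW.fromSpec hφ,
    inferInstanceAs (IsOpenImmersion hW.fromSpec), hW.range_fromSpec⟩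

/-- A map with nilpotent kernel onto its target induces a surjection of spectra. -/
theorem surjective_spMap_of_nil {A A' : Type u} [CommRing A] [Algebra R A] [CommRing A'] [Algebra R A']
    (π : A →ₐ[R] A') (hπ : Function.Surjective π) (hnil : ∀ z, π z = 0 → IsNilpotent z) :
    Function.Surjective (spMap π).left := fun P => by
  have hker : RingHom.ker π.toRingHom ≤ P.asIdeal := fun z hz => by
    obtain ⟨n, hn⟩ := hnil z hz
    exact P.isPrime.mem_of_pow_mem n (by rw [hn]; exact zero_mem _)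
  refine ⟨⟨P.asIdeal.map π.toRingHom, Ideal.map_isPrime_of_surjective hπ hker⟩, PrimeSpectrum.ext ?_⟩
  show Ideal.comap π.toRingHom (Ideal.map π.toRingHom P.asIdeal) = P.asIdeal
  refine (Ideal.comap_map_of_surjective π.toRingHom hπ P.asIdeal).trans ?_
  rw [← RingHom.ker_eq_comap_bot]
  exact sup_eq_left.mpr hker

variable {B : Type u} [CommRing B] [Algebra R B] (j : sp R B ⟶ G) [IsOpenImmersion j.left]

/-- A point landing in the chart factors through it. -/
theorem exists_factor {A : Type u} [CommRing A] [Algebra R A] (z : sp R A ⟶ G)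
    (h : ∀ s, z.left s ∈ Set.range j.left) : ∃ φ : B →ₐ[R] A, z = spMap φ ≫ j := by
  let l := IsOpenImmersion.lift j.left z.left (by rintro _ ⟨s, rfl⟩; exact h s)
  have hl : l ≫ j.left = z.left := IsOpenImmersion.lift_fac _ _ _
  let z' : sp R A ⟶ sp R B := Over.homMk l (by rw [← Over.w j, ← Category.assoc, hl, Over.w z])
  obtain ⟨φ, hφ⟩ := exists_spMap_eq z'
  exact ⟨φ, by rw [← hφ]; exact Over.OverMorphism.ext hl.symm⟩

theorem chart_inj {A : Type u} [CommRing A] [Algebra R A] {φ ψ : B →ₐ[R] A}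
    (h : spMap φ ≫ j = spMap ψ ≫ j) : φ = ψ := by
  haveI : Mono j := Over.mono_of_mono_left _
  exact spMap_inj ((cancel_mono j).mp h)

variable [GrpObj G] {T : Type u} [CommRing T] [Algebra R T] (I : Ideal T)

/-- The point is the unit modulo the ideal. -/
def Near (p : sp R T ⟶ G) : Prop := spMap (Ideal.Quotient.mkₐ R I) ≫ p = 1

variable {I}

theorem Near.range (hI2 : I * I = ⊥) (hj : ∀ s, (1 : sp R T ⟶ G).left s ∈ Set.range j.left) {p : sp R T ⟶ G}
    (hp : Near I p) (s : (sp R T).left) : p.left s ∈ Set.range j.left := by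
  obtain ⟨s', rfl⟩ := surjective_spMap_of_nil (Ideal.Quotient.mkₐ R I) Ideal.Quotient.mk_surjective (fun z hz =>
    ⟨2, by
      have h := Ideal.mul_mem_mul (Ideal.Quotient.eq_zero_iff_mem.mp hz) (Ideal.Quotient.eq_zero_iff_mem.mp hz)
      rw [hI2, Ideal.mem_bot] at h
      rw [sq, h]⟩) s
  rw [← Scheme.Hom.comp_apply, ← Over.comp_left, hp, ← MonObj.comp_one (spMap (Ideal.Quotient.mkₐ R I)),
    Over.comp_left, Scheme.Hom.comp_apply]
  exact hj _

/-- Pairs of elements congruent modulo the ideal. -/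
def Pairs2 (R : Type u) [CommRing R] {T : Type u} [CommRing T] [Algebra R T] (I : Ideal T) :
    Subalgebra R (T × T) where
  carrier := {p | p.2 - p.1 ∈ I}
  mul_mem' := fun {p q} hp hq => by
    show p.2 * q.2 - p.1 * q.1 ∈ I
    rw [show p.2 * q.2 - p.1 * q.1 = p.2 * (q.2 - q.1) + q.1 * (p.2 - p.1) by ring]
    exact add_mem (I.mul_mem_left _ hq) (I.mul_mem_left _ hp)
  add_mem' := fun {p q} hp hq => by
    show p.2 + q.2 - (p.1 + q.1) ∈ I
    rw [add_sub_add_comm]
    exact add_mem hp hq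
  algebraMap_mem' := fun r => by
    show algebraMap R T r - algebraMap R T r ∈ I
    rw [sub_self]; exact zero_mem _

/-- A point congruent to the unit commutes with a point which is central in the closed fibre. -/
theorem comm_of_near [IsLocalRing T] {C : Type u} [CommRing C] [Algebra R C] [Algebra T C] [IsScalarTower R T C]
    (hmI : ∀ m ∈ IsLocalRing.maximalIdeal T, ∀ i ∈ I, m * i = 0) (hIm : I ≤ IsLocalRing.maximalIdeal T)
    (hj : ∀ s, (1 : sp R C ⟶ G).left s ∈ Set.range j.left) (g p : sp R C ⟶ G)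
    (hc : ∀ (T' : Type u) [CommRing T'] [Algebra R T'] [Algebra T T'] [IsScalarTower R T T'],
      (∀ m ∈ IsLocalRing.maximalIdeal T, algebraMap T T' m = 0) → ∀ (q : sp R T' ⟶ G) (ρ : C →ₐ[T] T'),
      q * (spMap (ρ.restrictScalars R) ≫ g) = (spMap (ρ.restrictScalars R) ≫ g) * q)
    (hp : Near (I.map (algebraMap T C)) p) : g * p = p * g := by
  let J := I.map (algebraMap T C)
  have hI2 : I * I = ⊥ := eq_bot_iff.mpr (Ideal.mul_le.mpr fun a ha b hb => Ideal.mem_bot.mpr (hmI a (hIm ha) b hb))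
  have hJ2 : J * J = ⊥ := by rw [← Ideal.map_mul, hI2, Ideal.map_bot]
  obtain ⟨φ₁, hφ₁⟩ := exists_factor j (1 : sp R C ⟶ G) hj
  obtain ⟨φp, hφp⟩ := exists_factor j p (hp.range j hJ2 hj)
  have hdiff : ∀ b, φp b - φ₁ b ∈ J := fun b => by
    have h : (Ideal.Quotient.mkₐ R J).comp φp = (Ideal.Quotient.mkₐ R J).comp φ₁ := by
      apply chart_inj j
      rw [← spMap_comp, ← spMap_comp, Category.assoc, Category.assoc, ← hφp, ← hφ₁, MonObj.comp_one]
      exact hp
    exact Ideal.Quotient.eq.mp (DFunLike.congr_fun h b)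
  let Q : Subalgebra T (C × C) :=
    { carrier := {p | p.2 - p.1 ∈ J}
      mul_mem' := (Pairs2 R J).mul_mem'
      add_mem' := (Pairs2 R J).add_mem'
      algebraMap_mem' := fun r => by
        show algebraMap T C r - algebraMap T C r ∈ J
        rw [sub_self]; exact zero_mem _ }
  let pr1 : Q →ₐ[T] C := (AlgHom.fst T C C).comp Q.val
  let pr2 : Q →ₐ[T] C := (AlgHom.snd T C C).comp Q.val
  let dg : C →ₐ[T] Q := ((AlgHom.id T C).prod (AlgHom.id T C)).codRestrict Q fun c => by
    show c - c ∈ J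
    rw [sub_self]; exact zero_mem _
  let ζ : B →ₐ[R] Q :=
    { toFun := fun b => ⟨(φ₁ b, φp b), hdiff b⟩
      map_one' := Subtype.ext (Prod.ext (map_one φ₁) (map_one φp))
      map_mul' := fun a b => Subtype.ext (Prod.ext (map_mul φ₁ a b) (map_mul φp a b))
      map_zero' := Subtype.ext (Prod.ext (map_zero φ₁) (map_zero φp))
      map_add' := fun a b => Subtype.ext (Prod.ext (map_add φ₁ a b) (map_add φp a b))
      commutes' := fun r => Subtype.ext (Prod.ext (φ₁.commutes r)
        (φp.commutes r)) }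
  let P : sp R Q ⟶ G := spMap ζ ≫ j
  let g' : sp R Q ⟶ G := spMap (dg.restrictScalars R) ≫ g
  let c : sp R Q ⟶ G := g' * P * g'⁻¹
  have hP1 : spMap (pr1.restrictScalars R) ≫ P = 1 := by
    show _ ≫ spMap ζ ≫ j = _
    rw [← Category.assoc, spMap_comp, hφ₁]
    rfl
  have hP2 : spMap (pr2.restrictScalars R) ≫ P = p := by
    show _ ≫ spMap ζ ≫ j = _
    rw [← Category.assoc, spMap_comp, hφp]
    rfl
  have hg : ∀ pr : Q →ₐ[T] C, pr.comp dg = AlgHom.id T C → spMap (pr.restrictScalars R) ≫ g' = g := fun pr hpr => by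
    show _ ≫ spMap _ ≫ g = g
    rw [← Category.assoc, spMap_comp, show (pr.restrictScalars R).comp (dg.restrictScalars R) = AlgHom.id R C from
      AlgHom.ext fun x => DFunLike.congr_fun hpr x, spMap_id, Category.id_comp]
  have hc1 : spMap (pr1.restrictScalars R) ≫ c = 1 := by
    rw [show spMap (pr1.restrictScalars R) ≫ c = g * 1 * g⁻¹ by
      simp only [c, MonObj.comp_mul, GrpObj.comp_inv, hP1, hg pr1 rfl]]
    simp
  have hker1 : ∀ z : Q, pr1 z = 0 → IsNilpotent z := fun z hz => by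
    refine ⟨2, Subtype.ext (Prod.ext ?_ ?_)⟩
    · show z.1.1 ^ 2 = 0
      rw [show z.1.1 = 0 from hz, zero_pow two_ne_zero]
    · show z.1.2 ^ 2 = 0
      have h2 : z.1.2 - z.1.1 ∈ J := z.2
      rw [show z.1.1 = 0 from hz, sub_zero] at h2
      have h := Ideal.mul_mem_mul h2 h2
      rw [hJ2, Ideal.mem_bot] at h
      rw [sq, h]
  have hsurj : Function.Surjective (spMap (pr1.restrictScalars R)).left :=
    surjective_spMap_of_nil (pr1.restrictScalars R) (fun x => ⟨dg x, rfl⟩) hker1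
  have hrange : ∀ s, c.left s ∈ Set.range j.left := fun s => by
    obtain ⟨s', rfl⟩ := hsurj s
    rw [← Scheme.Hom.comp_apply, ← Over.comp_left, hc1]
    exact hj _
  obtain ⟨ω, hω⟩ := exists_factor j c hrange
  -- modulo the maximal ideal the conjugation does nothing
  let mQ := (IsLocalRing.maximalIdeal T).map (algebraMap T Q)
  let π : Q →ₐ[T] Q ⧸ mQ := Ideal.Quotient.mkₐ T mQ
  let πR : Q →ₐ[R] Q ⧸ mQ := Ideal.Quotient.mkₐ R mQ
  have hπ : spMap (A := (Q : Type u) ⧸ mQ) πR ≫ c = spMap (A := (Q : Type u) ⧸ mQ) πR ≫ P := by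
    have hcomm := hc (Q ⧸ mQ) (fun m hm => by
      rw [IsScalarTower.algebraMap_apply T Q (Q ⧸ mQ)]
      exact Ideal.Quotient.eq_zero_iff_mem.mpr (Ideal.mem_map_of_mem _ hm))
      (spMap (A := (Q : Type u) ⧸ mQ) πR ≫ P) (π.comp dg)
    have hg2 : spMap (A := (Q : Type u) ⧸ mQ) πR ≫ g' = spMap ((π.comp dg).restrictScalars R) ≫ g := by
      show _ ≫ spMap _ ≫ g = _
      rw [← Category.assoc, spMap_comp]
      rfl
    simp only [c, MonObj.comp_mul, GrpObj.comp_inv, hg2]
    rw [← hcomm, _root_.mul_assoc, _root_.mul_inv_cancel]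
    exact _root_.mul_one _
  have hωπ : ∀ b, π (ω b) = π (ζ b) := fun b => by
    have h : πR.comp ω = πR.comp ζ := by
      refine chart_inj j (A := (Q : Type u) ⧸ mQ) ?_
      rw [← spMap_comp, ← spMap_comp, Category.assoc, Category.assoc, ← hω]
      exact hπ
    exact DFunLike.congr_fun h b
  have hω1 : ∀ b, pr1 (ω b) = pr1 (ζ b) := fun b => by
    have h : (pr1.restrictScalars R).comp ω = (pr1.restrictScalars R).comp ζ := by
      apply chart_inj j
      rw [← spMap_comp, ← spMap_comp, Category.assoc, Category.assoc, ← hω, hc1]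
      exact hP1.symm
    exact DFunLike.congr_fun h b
  have hmQ : ∀ z ∈ mQ, z.1.2 - z.1.1 = 0 := by
    intro z hz
    have hkill : ∀ y ∈ J, ∀ m ∈ IsLocalRing.maximalIdeal T, algebraMap T C m * y = 0 := fun y hy m hm => by
      refine Submodule.span_induction ?_ (mul_zero _) ?_ ?_ hy
      · rintro _ ⟨i, hi, rfl⟩
        rw [← map_mul, hmI m hm i hi, map_zero]
      · intro _ _ _ _ h1 h2; rw [mul_add, h1, h2, add_zero]
      · intro c y _ h; rw [smul_eq_mul, mul_left_comm, h, mul_zero]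
    suffices h : z.1.2 - z.1.1 = 0 ∧ ∀ y ∈ J, z.1.1 * y = 0 from h.1
    refine Submodule.span_induction (p := fun z _ => z.1.2 - z.1.1 = 0 ∧ ∀ y ∈ J, z.1.1 * y = 0) ?_ ?_ ?_ ?_ hz
    · rintro _ ⟨m, hm, rfl⟩
      exact ⟨sub_self _, fun y hy => hkill y hy m hm⟩
    · exact ⟨sub_self _, fun y _ => zero_mul y⟩
    · rintro a b _ _ ⟨h1, h1'⟩ ⟨h2, h2'⟩
      refine ⟨?_, fun y hy => ?_⟩
      · show a.1.2 + b.1.2 - (a.1.1 + b.1.1) = 0
        rw [add_sub_add_comm, h1, h2, add_zero]
      · show (a.1.1 + b.1.1) * y = 0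
        rw [add_mul, h1' y hy, h2' y hy, add_zero]
    · rintro a b _ ⟨h1, h1'⟩
      refine ⟨?_, fun y hy => ?_⟩
      · show a.1.2 * b.1.2 - a.1.1 * b.1.1 = 0
        rw [sub_eq_zero.mp h1, ← sub_mul, mul_comm]
        exact h1' _ a.2
      · show a.1.1 * b.1.1 * y = 0
        rw [_root_.mul_assoc, h1' y hy, mul_zero]
  have heq : ω = ζ := AlgHom.ext fun b => by
    have h1 : (ω b).1.1 = (ζ b).1.1 := hω1 b
    have h2 := hmQ _ (Ideal.Quotient.eq.mp (hωπ b))
    refine Subtype.ext (Prod.ext h1 ?_)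
    change (ω b).1.2 - (ζ b).1.2 - ((ω b).1.1 - (ζ b).1.1) = 0 at h2
    rw [h1, sub_self, sub_zero, sub_eq_zero] at h2
    exact h2
  have hfin : spMap (pr2.restrictScalars R) ≫ c = p := by
    rw [hω, heq]
    exact hP2
  rw [show spMap (pr2.restrictScalars R) ≫ c = g * p * g⁻¹ by
    simp only [c, MonObj.comp_mul, GrpObj.comp_inv, hP2, hg pr2 rfl]] at hfin
  calc g * p = g * p * g⁻¹ * g := by simp
    _ = p * g := by rw [hfin]

/-- The difference from the unit is additive on points congruent to the unit. -/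
theorem mul_of_near (hI2 : I * I = ⊥) (hj : ∀ s, (1 : sp R T ⟶ G).left s ∈ Set.range j.left) {p q : sp R T ⟶ G}
    (hp : Near I p) (hq : Near I q) {φ₁ φp φq φpq : B →ₐ[R] T} (h₁ : (1 : sp R T ⟶ G) = spMap φ₁ ≫ j)
    (hp' : p = spMap φp ≫ j) (hq' : q = spMap φq ≫ j) (hpq : p * q = spMap φpq ≫ j) (b : B) :
    φpq b = φp b + φq b - φ₁ b := by
  have hd : ∀ φ r, Near I r → r = spMap φ ≫ j → ∀ b, φ b - φ₁ b ∈ I := fun φ r hr hφ b => by
    have h : (Ideal.Quotient.mkₐ R I).comp φ = (Ideal.Quotient.mkₐ R I).comp φ₁ := by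
      apply chart_inj j
      rw [← spMap_comp, ← spMap_comp, Category.assoc, Category.assoc, ← hφ, ← h₁, MonObj.comp_one]
      exact hr
    exact Ideal.Quotient.eq.mp (DFunLike.congr_fun h b)
  let Q : Subalgebra R (T × T × T) :=
    { carrier := {p | p.2.1 - p.1 ∈ I ∧ p.2.2 - p.1 ∈ I}
      mul_mem' := fun {p q} hp hq =>
        ⟨(Pairs2 R I).mul_mem' (a := (p.1, p.2.1)) (b := (q.1, q.2.1)) hp.1 hq.1,
          (Pairs2 R I).mul_mem' (a := (p.1, p.2.2)) (b := (q.1, q.2.2)) hp.2 hq.2⟩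
      add_mem' := fun {p q} hp hq =>
        ⟨(Pairs2 R I).add_mem' (a := (p.1, p.2.1)) (b := (q.1, q.2.1)) hp.1 hq.1,
          (Pairs2 R I).add_mem' (a := (p.1, p.2.2)) (b := (q.1, q.2.2)) hp.2 hq.2⟩
      algebraMap_mem' := fun r => ⟨(Pairs2 R I).algebraMap_mem' r, (Pairs2 R I).algebraMap_mem' r⟩ }
  let π₁ : Q →ₐ[R] T := (AlgHom.fst R T (T × T)).comp Q.val
  let π₂ : Q →ₐ[R] T := (AlgHom.fst R T T).comp ((AlgHom.snd R T (T × T)).comp Q.val)
  let π₃ : Q →ₐ[R] T := (AlgHom.snd R T T).comp ((AlgHom.snd R T (T × T)).comp Q.val)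
  let mk : ∀ (a b : B →ₐ[R] T), (∀ x, a x - φ₁ x ∈ I) → (∀ x, b x - φ₁ x ∈ I) → (B →ₐ[R] Q) := fun a b ha hb =>
    (φ₁.prod (a.prod b)).codRestrict Q fun x => ⟨ha x, hb x⟩
  have h0 : ∀ x, φ₁ x - φ₁ x ∈ I := fun x => by rw [sub_self]; exact zero_mem _
  let P : sp R Q ⟶ G := spMap (mk φp φ₁ (hd φp p hp hp') h0) ≫ j
  let P' : sp R Q ⟶ G := spMap (mk φ₁ φq h0 (hd φq q hq hq')) ≫ j
  let ζ := mk φp φq (hd φp p hp hp') (hd φq q hq hq')
  have proj : ∀ (π : Q →ₐ[R] T) (ψ : B →ₐ[R] Q), spMap π ≫ spMap ψ ≫ j = spMap (π.comp ψ) ≫ j := fun π ψ => by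
    rw [← Category.assoc, spMap_comp]
  have e1 : spMap π₁ ≫ (P * P') = 1 := by
    rw [MonObj.comp_mul, proj, proj]
    show (spMap φ₁ ≫ j) * (spMap φ₁ ≫ j) = 1
    rw [← h₁, _root_.one_mul]
  have e2 : spMap π₂ ≫ (P * P') = p := by
    rw [MonObj.comp_mul, proj, proj]
    show (spMap φp ≫ j) * (spMap φ₁ ≫ j) = p
    rw [← h₁, ← hp', _root_.mul_one]
  have e3 : spMap π₃ ≫ (P * P') = q := by
    rw [MonObj.comp_mul, proj, proj]
    show (spMap φ₁ ≫ j) * (spMap φq ≫ j) = q
    rw [← h₁, ← hq', _root_.one_mul]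
  have hsurj : Function.Surjective (spMap π₁).left := by
    refine surjective_spMap_of_nil π₁ (fun x => ⟨⟨(x, x, x), ?_⟩, rfl⟩) fun z hz => ⟨2, ?_⟩
    · exact ⟨by show x - x ∈ I; rw [sub_self]; exact zero_mem _, by show x - x ∈ I; rw [sub_self]; exact zero_mem _⟩
    · have hz0 : z.1.1 = 0 := hz
      have sq0 : ∀ a ∈ I, a ^ 2 = 0 := fun a ha => by
        have h := Ideal.mul_mem_mul ha ha
        rw [hI2, Ideal.mem_bot] at h
        rw [sq, h]
      refine Subtype.ext (Prod.ext ?_ (Prod.ext ?_ ?_))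
      · show z.1.1 ^ 2 = 0
        rw [hz0, zero_pow two_ne_zero]
      · exact sq0 z.1.2.1 (by simpa [hz0] using z.2.1)
      · exact sq0 z.1.2.2 (by simpa [hz0] using z.2.2)
  obtain ⟨ω, hω⟩ := exists_factor j (P * P') fun s => by
    obtain ⟨s', rfl⟩ := hsurj s
    rw [← Scheme.Hom.comp_apply, ← Over.comp_left, e1]
    exact hj _
  have w1 : ∀ (π : Q →ₐ[R] T) (φ : B →ₐ[R] T) r, spMap π ≫ (P * P') = r → r = spMap φ ≫ j → π.comp ω = φ :=
    fun π φ r h1 h2 => by
      apply chart_inj j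
      rw [← h2, ← h1, hω, proj]
  have hω' : ω = ζ := AlgHom.ext fun x => Subtype.ext (Prod.ext
    (DFunLike.congr_fun (w1 π₁ φ₁ 1 e1 h₁) x) (Prod.ext
      (DFunLike.congr_fun (w1 π₂ φp p e2 hp') x) (DFunLike.congr_fun (w1 π₃ φq q e3 hq') x)))
  -- add the two differences
  let s : Q →ₐ[R] T :=
    { toFun := fun z => z.1.2.1 + z.1.2.2 - z.1.1
      map_one' := by show (1 : T) + 1 - 1 = 1; ring
      map_mul' := fun z z' => by
        have k : ∀ a ∈ I, ∀ b ∈ I, a * b = 0 := fun a ha b hb => by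
          have h := Ideal.mul_mem_mul ha hb
          rwa [hI2, Ideal.mem_bot] at h
        show z.1.2.1 * z'.1.2.1 + z.1.2.2 * z'.1.2.2 - z.1.1 * z'.1.1 =
          (z.1.2.1 + z.1.2.2 - z.1.1) * (z'.1.2.1 + z'.1.2.2 - z'.1.1)
        linear_combination -(k _ z.2.1 _ z'.2.2) - k _ z.2.2 _ z'.2.1
      map_zero' := by show (0 : T) + 0 - 0 = 0; ring
      map_add' := fun z z' => by
        show z.1.2.1 + z'.1.2.1 + (z.1.2.2 + z'.1.2.2) - (z.1.1 + z'.1.1) = _
        ring
      commutes' := fun r => by show algebraMap R T r + algebraMap R T r - algebraMap R T r = _; ring }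
  have es : spMap s ≫ (P * P') = p * q := by
    rw [MonObj.comp_mul, proj, proj,
      show s.comp (mk φp φ₁ (hd φp p hp hp') h0) = φp from
        AlgHom.ext fun x => add_sub_cancel_right (φp x) (φ₁ x),
      show s.comp (mk φ₁ φq h0 (hd φq q hq hq')) = φq from
        AlgHom.ext fun x => add_sub_cancel_left (φ₁ x) (φq x), ← hp', ← hq']
  have := w1 s φpq _ es hpq
  rw [hω'] at this
  exact (DFunLike.congr_fun this b).symm

end Groth.Agent.MultCentral18
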